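import Cfsg.Agent.H464.L2Conj

/-!
# The characters of degree 10 of `L₂(11)` in cross characteristic (helper830)

* `tr_ext` : the traces of a representation of `SL₂(K)` with `-1 ↦ 1` are determined by those of the `u x` and `Zt τ`;
* `core_traces` : the traces of a core of degree 10 with socle `L₂(11)` and trivial centre.
-/

set_option autoImplicit false
set_option linter.unusedSectionVars false

namespace Cfsg.Agent.H830.O10

open Matrix Module Cfsg Cfsg.Geo Cfsg.Agent.H915.LD Cfsg.Agent.H464.Sl2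

universe u

section Reg

variable {K : Type*} [Field K] [Fintype K] {k : Type*} [Field k] {V : Type*} [AddCommGroup V] [Module k V]
  [FiniteDimensional k V] (R : SpecialLinearGroup (Fin 2) K →* Module.End k V)

theorem chi_reg (h3K : 3 ≤ Fintype.card K) {g : SpecialLinearGroup (Fin 2) K}
    (hτ : (g.1 0 0 + g.1 1 1) ^ 2 - 4 ≠ 0) : chi R g = ct R (g.1 0 0 + g.1 1 1) := by
  have hdet : g.1 0 0 * g.1 1 1 - g.1 0 1 * g.1 1 0 = 1 := by
    have := g.2
    rwa [Matrix.det_fin_two] at this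
  have hbig : ∀ g' : SpecialLinearGroup (Fin 2) K, g'.1 1 0 ≠ 0 → g'.1 0 0 + g'.1 1 1 = g.1 0 0 + g.1 1 1 →
      chi R g' = ct R (g.1 0 0 + g.1 1 1) := by
    intro g' hg' htr
    rcases bruhat g' with ⟨x, a, rfl⟩ | ⟨x, c, y, rfl⟩
    · exfalso
      apply hg'
      change ((u x).1 * (t a).1) 1 0 = 0
      have e1 : (u x).1 = !![1, x; 0, 1] := rfl
      have e2 : (t a).1 = !![(a : K), 0; 0, ((a⁻¹ : Kˣ) : K)] := rfl
      rw [e1, e2]
      simp
    · rw [chi_big]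
      rw [tr_big] at htr
      exact chi_u_mul_w R hτ _ c htr
  by_cases hg10 : g.1 1 0 = 0
  · have hlow : ∀ y : K, ∃ h : SpecialLinearGroup (Fin 2) K,
        (h * g * h⁻¹).1 1 0 = y * (g.1 0 0 - g.1 1 1 - y * g.1 0 1) := by
      intro y
      refine ⟨⟨!![1, 0; y, 1], by simp [Matrix.det_fin_two]⟩, ?_⟩
      change ((!![1, 0; y, 1] * g.1) * (adjugate !![1, 0; y, 1])) 1 0 = _
      rw [Matrix.adjugate_fin_two_of, Matrix.mul_apply, Fin.sum_univ_two, Matrix.mul_apply, Matrix.mul_apply,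
        Fin.sum_univ_two, Fin.sum_univ_two]
      simp [hg10]
      ring
    obtain ⟨y, hy0, hy⟩ : ∃ y : K, y ≠ 0 ∧ g.1 0 0 - g.1 1 1 - y * g.1 0 1 ≠ 0 := by
      classical
      obtain ⟨y, hy⟩ : ∃ y : K, y ∉ ({0, (g.1 0 0 - g.1 1 1) / g.1 0 1} : Finset K) := by
        by_contra hcon
        push Not at hcon
        have h1 : Fintype.card K ≤ 2 := by
          rw [← Finset.card_univ]
          exact (Finset.card_le_card fun y _ => hcon y).trans Finset.card_le_two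
        omega
      rw [Finset.mem_insert, Finset.mem_singleton, not_or] at hy
      refine ⟨y, hy.1, ?_⟩
      intro h0
      by_cases hb : g.1 0 1 = 0
      · apply hτ
        rw [hb, mul_zero, sub_zero] at h0
        rw [hg10, mul_zero, sub_zero] at hdet
        linear_combination (g.1 0 0 - g.1 1 1) * h0 + 4 * hdet
      · apply hy.2
        rw [eq_div_iff hb]
        linear_combination -h0
    obtain ⟨h, hh⟩ := hlow y
    rw [← chi_conj R h g]
    apply hbig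
    · rw [hh]
      exact mul_ne_zero hy0 hy
    · exact tr_conj h g
  · exact hbig g hg10 rfl

end Reg

section Mat

variable {K : Type*} [Field K] [Fintype K] {F : Type*} [Field F] {ι : Type} [Fintype ι] [DecidableEq ι]

/-- a matrix representation as a representation -/
noncomputable def toEnd (ρ : SpecialLinearGroup (Fin 2) K →* GL ι F) :
    SpecialLinearGroup (Fin 2) K →* Module.End F (ι → F) where
  toFun g := Matrix.toLin' (ρ g : Matrix ι ι F)
  map_one' := by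
    rw [map_one, Units.val_one, Matrix.toLin'_one]
    rfl
  map_mul' g h := by
    rw [map_mul, Units.val_mul, Matrix.toLin'_mul]
    rfl

theorem chi_toEnd (ρ : SpecialLinearGroup (Fin 2) K →* GL ι F) (g : SpecialLinearGroup (Fin 2) K) :
    chi (toEnd ρ) g = tr (ρ g) := by
  rw [chi, tr]
  exact Matrix.trace_toLin'_eq _

theorem tr_reg (h3K : 3 ≤ Fintype.card K) (ρ : SpecialLinearGroup (Fin 2) K →* GL ι F)
    {g : SpecialLinearGroup (Fin 2) K} (hτ : (g.1 0 0 + g.1 1 1) ^ 2 - 4 ≠ 0) :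
    tr (ρ g) = tr (ρ (Zt (g.1 0 0 + g.1 1 1))) := by
  rw [← chi_toEnd, ← chi_toEnd, chi_reg _ h3K hτ]
  rfl

theorem tr_conj_rho (ρ : SpecialLinearGroup (Fin 2) K →* GL ι F) (h g : SpecialLinearGroup (Fin 2) K) :
    tr (ρ (h * g * h⁻¹)) = tr (ρ g) := by
  rw [← chi_toEnd, ← chi_toEnd, chi_conj]

/-- **Representations with the same traces.** -/
theorem tr_ext (h3K : 3 ≤ Fintype.card K) {ρ ρ' : SpecialLinearGroup (Fin 2) K →* GL ι F}
    (hz : ρ (t (-1)) = 1) (hz' : ρ' (t (-1)) = 1) (hu : ∀ x, tr (ρ (u x)) = tr (ρ' (u x)))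
    (hc : ∀ τ : K, τ ^ 2 - 4 ≠ 0 → tr (ρ (Zt τ)) = tr (ρ' (Zt τ))) (g : SpecialLinearGroup (Fin 2) K) :
    tr (ρ g) = tr (ρ' g) := by
  by_cases hτ : (g.1 0 0 + g.1 1 1) ^ 2 - 4 = 0
  · obtain ⟨h, ε, y, hε, rfl⟩ := exists_conj_unip g hτ
    rw [tr_conj_rho, tr_conj_rho]
    have h1 : ε = 1 ∨ ε = -1 := by
      have h2 : (ε : K) ^ 2 = 1 := by
        rw [← Units.val_pow_eq_pow_val, hε, Units.val_one]
      rw [sq] at h2
      rcases mul_self_eq_one_iff.1 h2 with h | h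
      · exact Or.inl (Units.ext h)
      · exact Or.inr (Units.ext h)
    rcases h1 with rfl | rfl
    · rw [t_one, one_mul, hu]
    · rw [map_mul, map_mul, hz, hz', one_mul, one_mul, hu]
  · rw [tr_reg h3K ρ hτ, tr_reg h3K ρ' hτ, hc _ hτ]

end Mat

/-! ### `SL₂(11)` -/

instance fact11 : Fact (Nat.Prime 11) := ⟨by norm_num⟩

theorem zt_pow_mod (n : ℕ) : Zt (5 : ZMod 11) ^ n = Zt (5 : ZMod 11) ^ (n % 12) := by
  have h : Zt (5 : ZMod 11) ^ 12 = 1 := by decide +kernel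
  conv_lhs => rw [← Nat.div_add_mod n 12, pow_add, pow_mul, h, one_pow, one_mul]

theorem gen_five : Gen (5 : ZMod 11) where
  ns := by unfold NonSplit; decide +kernel
  pow_card := by rw [ZMod.card]; decide +kernel
  surj := by
    intro τ hτ
    have h : ∀ τ : ZMod 11, (∀ x : ZMod 11, x ^ 2 - τ * x + 1 ≠ 0) → ∃ n : Fin 12,
      (Zt (5 : ZMod 11) ^ (n : ℕ)).1 0 0 + (Zt (5 : ZMod 11) ^ (n : ℕ)).1 1 1 = τ ∧
        (Zt (5 : ZMod 11) ^ (n : ℕ)).1 1 0 ≠ 0 := by decide +kernel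
    obtain ⟨n, hn⟩ := h τ hτ
    exact ⟨n, hn⟩
  lower := by
    intro n
    rw [zt_pow_mod, ZMod.card, show 12 ∣ 2 * n ↔ 12 ∣ 2 * (n % 12) by omega]
    have h : ∀ m : Fin 12, (Zt (5 : ZMod 11) ^ (m : ℕ)).1 1 0 = 0 ↔ 12 ∣ 2 * (m : ℕ) := by decide +kernel
    exact h ⟨n % 12, Nat.mod_lt _ (by norm_num)⟩
  one := by
    intro n hn
    rw [zt_pow_mod] at hn
    rw [ZMod.card, Nat.dvd_iff_mod_eq_zero]
    have h : ∀ m : Fin 12, Zt (5 : ZMod 11) ^ (m : ℕ) = 1 → (m : ℕ) = 0 := by decide +kernel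
    exact h ⟨n % 12, Nat.mod_lt _ (by norm_num)⟩ hn
  neg_one := by
    intro _
    rw [ZMod.card]
    decide +kernel
  sq := by
    intro _ n hn
    rw [zt_pow_mod] at hn ⊢
    rw [show Even n ↔ Even (n % 12) by rw [Nat.even_iff, Nat.even_iff]; omega]
    have h : ∀ m : Fin 12, (Zt (5 : ZMod 11) ^ (m : ℕ)).1 1 0 ≠ 0 →
      (IsSquare ((Zt (5 : ZMod 11) ^ (m : ℕ)).1 0 0 + (Zt (5 : ZMod 11) ^ (m : ℕ)).1 1 1 + 2) ↔ Even (m : ℕ)) := by
      decide +kernel
    exact h ⟨n % 12, Nat.mod_lt _ (by norm_num)⟩ hn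

/-- the characters of degree 10 on the elements `Zt τ` -/
def fz (s : ℤ) (τ : ZMod 11) : ℤ :=
  if τ = 0 then 2 * s else if τ = 1 ∨ τ = -1 then 1 else if τ = 5 ∨ τ = -5 then -s else 0

variable {F : Type u} [Field F] {P : Subgroup (GL (Fin 10) F)}

/-- **The traces.** -/
theorem core_traces (p : ℕ) [hp : Fact p.Prime] [CharP F p] (hC : Core P)
    (ρ : SpecialLinearGroup (Fin 2) (ZMod 11) →* GL (Fin 10) F) (hρ : ρ.range = P) (hp11 : p ≠ 11)
    (hz : ρ (t (-1)) = 1) :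
    ∃ s : ℤ, (s = 1 ∨ s = -1) ∧ (p = 3 → s = -1) ∧ (∀ x : ZMod 11, x ≠ 0 → tr (ρ (u x)) = -1) ∧
      ∀ τ : ZMod 11, τ ^ 2 - 4 ≠ 0 → tr (ρ (Zt τ)) = ((fz s τ : ℤ) : F) := by
  have hpK : ¬ p ∣ Fintype.card (ZMod 11) := by
    rw [ZMod.card]
    intro h
    exact hp11 ((Nat.prime_dvd_prime_iff_eq hp.out (by norm_num)).1 h)
  obtain ⟨ζ, hζ, h1, h2, h3, h4, h5, h6, h7, -⟩ := cusp_field p hC ρ hρ hpK (by rw [ZMod.card]; norm_num)
    (by rw [ZMod.card, Fintype.card_fin]) gen_five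
  have hcp : CharP (AlgebraicClosure F) p :=
    charP_of_injective_algebraMap (algebraMap F (AlgebraicClosure F)).injective p
  have hodd : Odd (Fintype.card (ZMod 11)) := by rw [ZMod.card]; decide
  have hne := h2 hodd
  have h6' := h4 hodd 1 (by rw [hz, Units.val_one, one_smul])
  rw [map_one, ZMod.card, show (11 + 1) / 2 = 6 by norm_num] at h6'
  have hinj := (algebraMap F (AlgebraicClosure F)).injective
  obtain ⟨s, hs, hs3, hζs⟩ : ∃ s : ℤ, (s = 1 ∨ s = -1) ∧ (p = 3 → s = -1) ∧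
      ζ + ζ⁻¹ = ((s : ℤ) : AlgebraicClosure F) := by
    have hf : (ζ - 1) * (ζ + 1) * (ζ ^ 2 + ζ + 1) * (ζ ^ 2 - ζ + 1) = 0 := by linear_combination -h6'
    rcases mul_eq_zero.1 hf with hf | hf
    · rcases mul_eq_zero.1 hf with hf | hf
      · rcases mul_eq_zero.1 hf with hf | hf
        · have hζ1 : ζ = 1 := sub_eq_zero.1 hf
          have hp12 := h3 hζ1
          rw [ZMod.card] at hp12
          have hp23 : p = 2 ∨ p = 3 := by
            have h8 : p ∣ 2 ^ 2 * 3 := by simpa using hp12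
            rcases (Nat.Prime.dvd_mul hp.out).1 h8 with h9 | h9
            · exact Or.inl ((Nat.prime_dvd_prime_iff_eq hp.out (by norm_num)).1 (hp.out.dvd_of_dvd_pow h9))
            · exact Or.inr ((Nat.prime_dvd_prime_iff_eq hp.out (by norm_num)).1 h9)
          rcases hp23 with rfl | rfl
          · exfalso
            apply hne
            have h8 : (2 : AlgebraicClosure F) = 0 := by exact_mod_cast CharP.cast_eq_zero (AlgebraicClosure F) 2
            rw [hζ1]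
            linear_combination h8
          · refine ⟨-1, Or.inr rfl, fun _ => rfl, ?_⟩
            have h8 : (3 : AlgebraicClosure F) = 0 := by exact_mod_cast CharP.cast_eq_zero (AlgebraicClosure F) 3
            rw [hζ1, inv_one]
            push_cast
            linear_combination h8
        · exact absurd (by linear_combination hf) hne
      · refine ⟨-1, Or.inr rfl, fun _ => rfl, ?_⟩
        field_simp
        push_cast
        linear_combination hf
    · refine ⟨1, Or.inl rfl, ?_, ?_⟩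
      · rintro rfl
        exfalso
        have h8 : (3 : AlgebraicClosure F) = 0 := by exact_mod_cast CharP.cast_eq_zero (AlgebraicClosure F) 3
        have h9 : (ζ + 1) ^ 2 = 0 := by linear_combination hf + ζ * h8
        exact hne (by linear_combination (pow_eq_zero_iff two_ne_zero).1 h9)
      · field_simp
        push_cast
        linear_combination hf
  refine ⟨s, hs, hs3, h7, ?_⟩
  have hs2 : ((s : ℤ) : AlgebraicClosure F) ^ 2 = 1 := by
    rcases hs with rfl | rfl <;> norm_num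
  have hi : ζ * ζ⁻¹ = 1 := mul_inv_cancel₀ hζ
  -- the regular values
  have key : ∀ (n : ℕ) (τ : ZMod 11), (Zt (5 : ZMod 11) ^ n).1 0 0 + (Zt (5 : ZMod 11) ^ n).1 1 1 = τ →
      τ ^ 2 - 4 ≠ 0 → (Zt (5 : ZMod 11) ^ n).1 1 0 ≠ 0 →
      algebraMap F (AlgebraicClosure F) (tr (ρ (Zt τ))) = -(ζ ^ n + (ζ⁻¹) ^ n) := by
    intro n τ hn hτ h0
    rw [← h5 n h0, ← hn, ← tr_reg (by rw [ZMod.card]; norm_num) ρ (by rw [hn]; exact hτ)]
  have keyt : ∀ (a : (ZMod 11)ˣ) (τ : ZMod 11), (a : ZMod 11) + ((a⁻¹ : (ZMod 11)ˣ) : ZMod 11) = τ →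
      τ ^ 2 - 4 ≠ 0 → a ^ 2 ≠ 1 → tr (ρ (Zt τ)) = 0 := by
    intro a τ ha hτ h0
    rw [← h6 a h0, tr_reg (g := t a) (by rw [ZMod.card]; norm_num) ρ (by
      change ((a : ZMod 11) + ((a⁻¹ : (ZMod 11)ˣ) : ZMod 11)) ^ 2 - 4 ≠ 0
      rw [ha]; exact hτ)]
    change _ = tr (ρ (Zt ((a : ZMod 11) + ((a⁻¹ : (ZMod 11)ˣ) : ZMod 11))))
    rw [ha]
  intro τ hτ
  have hcases : ∀ τ : ZMod 11, τ ^ 2 - 4 ≠ 0 → τ = 0 ∨ τ = 1 ∨ τ = -1 ∨ τ = 5 ∨ τ = -5 ∨ τ = 3 ∨ τ = -3 ∨ τ = 4 ∨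
    τ = -4 := by decide +kernel
  have v1 : ζ ^ 1 + (ζ⁻¹) ^ 1 = ((s : ℤ) : AlgebraicClosure F) := by rw [pow_one, pow_one]; exact hζs
  have v2 : ζ ^ 2 + (ζ⁻¹) ^ 2 = -1 := by linear_combination (ζ + ζ⁻¹ + (s : AlgebraicClosure F)) * hζs - 2 * hi + hs2
  have v3 : ζ ^ 3 + (ζ⁻¹) ^ 3 = -2 * ((s : ℤ) : AlgebraicClosure F) := by
    linear_combination (ζ + ζ⁻¹) * v2 - 2 * hζs - (ζ + ζ⁻¹) * hi
  have v4 : ζ ^ 4 + (ζ⁻¹) ^ 4 = -1 := by
    linear_combination (ζ ^ 2 + ζ⁻¹ ^ 2 - 1) * v2 - 2 * (ζ * ζ⁻¹ + 1) * hi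
  have v5 : ζ ^ 5 + (ζ⁻¹) ^ 5 = ((s : ℤ) : AlgebraicClosure F) := by
    linear_combination (ζ ^ 3 + ζ⁻¹ ^ 3) * v2 - v3 - (ζ + ζ⁻¹) * (ζ * ζ⁻¹ + 1) * hi - hζs
  have fin : ∀ (n : ℕ) (τ : ZMod 11) (m : ℤ), (Zt (5 : ZMod 11) ^ n).1 0 0 + (Zt (5 : ZMod 11) ^ n).1 1 1 = τ →
      τ ^ 2 - 4 ≠ 0 → (Zt (5 : ZMod 11) ^ n).1 1 0 ≠ 0 → ζ ^ n + (ζ⁻¹) ^ n = ((-m : ℤ) : AlgebraicClosure F) →
      tr (ρ (Zt τ)) = ((m : ℤ) : F) := by
    intro n τ m hn hτ h0 hv
    apply hinj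
    rw [key n τ hn hτ h0, hv, map_intCast]
    push_cast
    ring
  rcases hcases τ hτ with rfl | rfl | rfl | rfl | rfl | rfl | rfl | rfl | rfl
  · rw [show fz s 0 = 2 * s from rfl]
    exact fin 3 0 (2 * s) (by decide +kernel) hτ (by decide +kernel) (by rw [v3]; push_cast; ring)
  · rw [show fz s 1 = 1 from rfl]
    exact fin 2 1 1 (by decide +kernel) hτ (by decide +kernel) (by rw [v2]; push_cast; ring)
  · rw [show fz s (-1) = 1 from rfl]
    exact fin 4 (-1) 1 (by decide +kernel) hτ (by decide +kernel) (by rw [v4]; push_cast; ring)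
  · rw [show fz s 5 = -s from rfl]
    exact fin 1 5 (-s) (by decide +kernel) hτ (by decide +kernel) (by rw [v1]; push_cast; ring)
  · rw [show fz s (-5) = -s from rfl]
    exact fin 5 (-5) (-s) (by decide +kernel) hτ (by decide +kernel) (by rw [v5]; push_cast; ring)
  · rw [show fz s 3 = 0 from rfl, Int.cast_zero]
    exact keyt (ZMod.unitOfCoprime 5 (by norm_num)) 3 (by decide +kernel) hτ (by decide +kernel)
  · rw [show fz s (-3) = 0 from rfl, Int.cast_zero]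
    exact keyt (ZMod.unitOfCoprime 2 (by norm_num)) (-3) (by decide +kernel) hτ (by decide +kernel)
  · rw [show fz s 4 = 0 from rfl, Int.cast_zero]
    exact keyt (ZMod.unitOfCoprime 7 (by norm_num)) 4 (by decide +kernel) hτ (by decide +kernel)
  · rw [show fz s (-4) = 0 from rfl, Int.cast_zero]
    exact keyt (ZMod.unitOfCoprime 3 (by norm_num)) (-4) (by decide +kernel) hτ (by decide +kernel)

end Cfsg.Agent.H830.O10
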