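import Cfsg.Agent.H830.O10.Ele
import Cfsg.Agent.H80.OrthTwo

/-!
# Common lemmas for the kills of `L₂(11)` in dimension 10 (helper830)
-/

set_option autoImplicit false
set_option linter.unusedSectionVars false

namespace Cfsg.Agent.H830.O10

open Matrix Module Cfsg Cfsg.Geo Cfsg.Agent.H915.LD Cfsg.Agent.H464.Sl2 Cfsg.Agent.H910.Aut
open Cfsg.Agent.H933.O10 (Cx fix_of_mem_omegaGL)
open Cfsg.Agent.ClassicalGeometry.AutPSL.Auto (cj)

universe u

section gen

variable {F : Type u} [Field F] {ι : Type} [Fintype ι] [DecidableEq ι]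

/-- the stabiliser of a vector -/
def K0 (P : Subgroup (GL ι F)) (v : ι → F) : Subgroup P where
  carrier := {g | ((g : GL ι F) : Matrix ι ι F) *ᵥ v = v}
  one_mem' := Matrix.one_mulVec v
  mul_mem' := by
    intro a b ha hb
    change (((a : GL ι F) * (b : GL ι F) : GL ι F) : Matrix ι ι F) *ᵥ v = v
    rw [Units.val_mul, ← Matrix.mulVec_mulVec, hb, ha]
  inv_mem' := by
    intro a ha
    change (((a : GL ι F)⁻¹ : GL ι F) : Matrix ι ι F) *ᵥ v = v
    conv_lhs => rw [← show ((a : GL ι F) : Matrix ι ι F) *ᵥ v = v from ha]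
    rw [Matrix.mulVec_mulVec, ← Units.val_mul, inv_mul_cancel, Units.val_one, Matrix.one_mulVec]

theorem mem_K0 {P : Subgroup (GL ι F)} {v : ι → F} {g : P} :
    g ∈ K0 P v ↔ ((g : GL ι F) : Matrix ι ι F) *ᵥ v = v := Iff.rfl

theorem mulVec_inj (g : GL ι F) {x y : ι → F} (h : (g : Matrix ι ι F) *ᵥ x = (g : Matrix ι ι F) *ᵥ y) : x = y := by
  have h1 := congrArg (fun z => ((g⁻¹ : GL ι F) : Matrix ι ι F) *ᵥ z) h
  simp only [Matrix.mulVec_mulVec] at h1
  rwa [← Units.val_mul, inv_mul_cancel, Units.val_one, Matrix.one_mulVec, Matrix.one_mulVec] at h1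

theorem index_K0 {P : Subgroup (GL ι F)} {n : ℕ} {v : Fin n → ι → F} (hv : Function.Injective v) (i₀ : Fin n)
    (hP : ∀ g ∈ P, ∃ i, (g : Matrix ι ι F) *ᵥ v i₀ = v i)
    (htr : ∀ i, ∃ g ∈ P, (g : Matrix ι ι F) *ᵥ v i₀ = v i) : (K0 P (v i₀)).index = n := by
  have : Nonempty (Fin n) := ⟨i₀⟩
  choose! f hf using hP
  have key : ∀ a b : P, (QuotientGroup.leftRel (K0 P (v i₀))) a b ↔ f a = f b := by
    intro a b
    rw [QuotientGroup.leftRel_apply, mem_K0]
    have h1 := hf a a.2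
    have h2 := hf b b.2
    constructor
    · intro h
      apply hv
      rw [← h1, ← h2]
      have h3 := congrArg (fun z => ((a : GL ι F) : Matrix ι ι F) *ᵥ z) h
      simp only [Matrix.mulVec_mulVec] at h3
      rw [← h3, ← Units.val_mul]
      simp
    · intro h
      apply mulVec_inj (a : GL ι F)
      rw [Matrix.mulVec_mulVec, ← Units.val_mul, h1, h, ← h2]
      simp
  rw [Subgroup.index_eq_card, ← Nat.card_fin (n := n)] 
  refine Nat.card_congr (Equiv.ofBijective (Quotient.lift (fun a : P => f a) fun a b h => (key a b).1 h) ⟨?_, ?_⟩)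
  · intro a b
    induction a using Quotient.inductionOn with
    | h a =>
      induction b using Quotient.inductionOn with
      | h b =>
        intro h
        exact Quotient.sound ((key a b).2 h)
  · intro i
    obtain ⟨g, hg, h⟩ := htr i
    refine ⟨Quotient.mk _ ⟨g, hg⟩, ?_⟩
    apply hv
    change v (f g) = v i
    rw [← hf g hg, h]

/-- Elements of `omegaGL` have determinant one. -/
theorem det_omegaGL {Q : (ι → F) → F} {g : GL ι F} (hg : g ∈ omegaGL Q) :
    (g : Matrix ι ι F).det = 1 := by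
  obtain ⟨y, hy, rfl⟩ := hg
  have h1 := Abelianization.commutator_subset_ker
    ((Matrix.GeneralLinearGroup.det : GL ι F →* Fˣ).comp (Cfsg.isometryGroup F Q).subtype) hy
  have h2 := congrArg Units.val (MonoidHom.mem_ker.1 h1)
  exact h2

end gen

theorem card_psl_le : Nat.card (ProjectiveSpecialLinearGroup (Fin 2) (ZMod 11)) ≤ 14641 := by
  have h1 : Nat.card (ProjectiveSpecialLinearGroup (Fin 2) (ZMod 11)) ≤
      Nat.card (SpecialLinearGroup (Fin 2) (ZMod 11)) :=
    Nat.card_le_card_of_surjective _ (QuotientGroup.mk'_surjective _)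
  have h2 : Nat.card (SpecialLinearGroup (Fin 2) (ZMod 11)) ≤ Nat.card (Matrix (Fin 2) (Fin 2) (ZMod 11)) :=
    Nat.card_le_card_of_injective _ Subtype.val_injective
  have h3 : Nat.card (Matrix (Fin 2) (Fin 2) (ZMod 11)) = 14641 := by
    rw [Matrix, Nat.card_fun, Nat.card_fun]
    simp
  omega

theorem no_alt {T : Type*} [Group T] {n : ℕ} (hn : n = 11 ∨ n = 12)
    (e : Nonempty (T ≃* ProjectiveSpecialLinearGroup (Fin 2) (ZMod 11)))
    (e' : Nonempty (T ≃* alternatingGroup (Fin n))) : False := by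
  obtain ⟨e⟩ := e
  obtain ⟨e'⟩ := e'
  have h1 := Nat.card_congr (e'.symm.trans e).toEquiv
  have h2 := card_psl_le
  rw [← h1] at h2
  have h3 : 2 * Nat.card (alternatingGroup (Fin n)) = n.factorial := by
    have : Nontrivial (Fin n) := Fin.nontrivial_iff_two_le.2 (by omega)
    have h4 := two_mul_nat_card_alternatingGroup (α := Fin n)
    rw [Nat.card_perm, Nat.card_fin] at h4
    exact h4
  rcases hn with rfl | rfl
  · have h5 : Nat.factorial 11 = 39916800 := by decide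
    omega
  · have h5 : Nat.factorial 12 = 479001600 := by decide
    omega

variable {F : Type u} [Field F] [Fintype F] {p : ℕ} {Q : (Fin 10 → F) → F} {H P : Subgroup (GL (Fin 10) F)}

/-- **The representation.** -/
theorem exists_rho (h : Cx p Q H P) (hp11 : p ≠ 11)
    (e : Soc P ≃* ProjectiveSpecialLinearGroup (Fin 2) (ZMod 11)) :
    ∃ ρ : SpecialLinearGroup (Fin 2) (ZMod 11) →* GL (Fin 10) F, ρ.range = P ∧
      (∀ (g : SpecialLinearGroup (Fin 2) (ZMod 11)) (h : ρ g ∈ P), e (toSoc P ⟨ρ g, h⟩) = QuotientGroup.mk g) ∧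
      ρ (t (-1)) = 1 ∧ (∀ x : ZMod 11, x ≠ 0 → tr (ρ (u x)) = -1) ∧
      ∃ s : ℤ, (s = 1 ∨ s = -1) ∧ (p = 3 → s = -1) ∧
        ∀ τ : ZMod 11, τ ^ 2 - 4 ≠ 0 → tr (ρ (Zt τ)) = ((fz s τ : ℤ) : F) := by
  have := Fact.mk h.prime
  have := h.char
  have hpK : ¬ p ∣ Fintype.card (ZMod 11) := by
    rw [ZMod.card]
    intro h'
    exact hp11 ((Nat.prime_dvd_prime_iff_eq h.prime (by norm_num)).1 h')
  obtain ⟨-, -, hbot⟩ := H933.O10.l2_row h (by rw [ZMod.card]; norm_num) (by rw [ZMod.card]; norm_num) hpK e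
  obtain ⟨ρ, hρ, hρe⟩ := l2_rep h.core (by rw [ZMod.card]; norm_num) (by rw [ZMod.card]; norm_num) e
  have hz := (l2_bot_iff h.core e ρ hρ hρe).1 hbot
  obtain ⟨s, h1, h2, h3, h4⟩ := core_traces p h.core ρ hρ hp11 hz
  exact ⟨ρ, hρ, hρe, hz, h3, s, h1, h2, h4⟩

end Cfsg.Agent.H830.O10
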