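import Cfsg.Agent.H830.O10.Nrm
import Cfsg.Agent.Lib.SL2Lift
import Cfsg.Agent.H933.O10.L2

/-!
# `L₂(11)` on eleven points (helper830)

* `phi : SL₂(11) →* Perm (ZMod 11)`; `mg : Perm (Fin 11) →* GL₁₀(F)`, the module of the eleven vectors `vs i` with sum zero;
* `exists_J` : a core of degree 10 with the same traces is conjugate to the model.
-/

set_option autoImplicit false
set_option linter.unusedSectionVars false

namespace Cfsg.Agent.H830.O10

open Matrix Module Cfsg Cfsg.Geo Cfsg.Agent.H915.LD Cfsg.Agent.H464.Sl2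

universe u

/-! ### The permutations -/

/-- translations -/
def xp (t : ZMod 11) : Equiv.Perm (Fin 11) :=
  (⟨fun i => i + t, fun i => i - t, fun i => by ring, fun i => by ring⟩ : Equiv.Perm (ZMod 11))

/-- multiplications by squares -/
def hp (a : ZMod 11) : Equiv.Perm (Fin 11) :=
  (⟨fun i => if a = 0 then i else a ^ 2 * i, fun i => if a = 0 then i else a⁻¹ ^ 2 * i,
    by revert a; unfold Function.LeftInverse; decide +kernel,
    by revert a; unfold Function.RightInverse Function.LeftInverse; decide +kernel⟩ : Equiv.Perm (ZMod 11))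

def wf (i : Fin 11) : Fin 11 :=
  (#[0, 1, 10, 4, 3, 9, 7, 6, 8, 5, 2] : Array (Fin 11)).getD i.val 0

/-- the involution -/
def wp : Equiv.Perm (Fin 11) :=
  ⟨wf, wf, by unfold Function.LeftInverse; decide +kernel, by unfold Function.RightInverse Function.LeftInverse; decide +kernel⟩

theorem relp : Lib.SL2Lift.Rel xp hp wp where
  add := by decide +kernel
  mul := by decide +kernel
  conj := by decide +kernel
  wh := by decide +kernel
  ww := by decide +kernel
  wx := by decide +kernel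

/-- `SL₂(11)` on eleven points -/
noncomputable def phi : SpecialLinearGroup (Fin 2) (ZMod 11) →* Equiv.Perm (Fin 11) := Lib.SL2Lift.hom relp

theorem phi_u (x : ZMod 11) : phi (u x) = xp x := Lib.SL2Lift.hom_X relp x

theorem t_eq (a : (ZMod 11)ˣ) : t a = Lib.SL2Lift.H (a : ZMod 11) a.ne_zero := by
  apply Subtype.ext
  change !![(a : ZMod 11), 0; 0, ((a⁻¹ : (ZMod 11)ˣ) : ZMod 11)] = !![(a : ZMod 11), 0; 0, (a : ZMod 11)⁻¹]
  rw [Units.val_inv_eq_inv_val]

theorem phi_t (a : (ZMod 11)ˣ) : phi (t a) = hp a := by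
  rw [t_eq]
  exact Lib.SL2Lift.hom_H relp _ _

theorem w_one_eq : (w 1 : SpecialLinearGroup (Fin 2) (ZMod 11)) = t (-1) * Lib.SL2Lift.W := by decide +kernel

theorem phi_w : phi (w 1) = wp := by
  rw [w_one_eq, map_mul, phi_t]
  have h : phi Lib.SL2Lift.W = wp := Lib.SL2Lift.hom_W relp
  rw [h]
  decide +kernel

theorem phi_neg : phi (t (-1)) = 1 := by
  rw [phi_t]
  decide +kernel

/-! ### The eleven vectors -/

/-- the matrix of a permutation on the sum-zero system -/
def mz (σ : Equiv.Perm (Fin 11)) : Matrix (Fin 10) (Fin 10) ℤ := fun i j =>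
  (if σ j.castSucc = i.castSucc then 1 else 0) - (if σ j.castSucc = Fin.last 10 then 1 else 0)

section model

variable (F : Type u) [Field F]

/-- the eleven vectors -/
def vs (i : Fin 11) : Fin 10 → F := fun k =>
  (if i = k.castSucc then 1 else 0) - (if i = Fin.last 10 then 1 else 0)

def mf (σ : Equiv.Perm (Fin 11)) : Matrix (Fin 10) (Fin 10) F := (mz σ).map (Int.castRingHom F)

theorem vs_castSucc (j : Fin 10) : vs F j.castSucc = Pi.single j 1 := by
  funext k
  rw [vs, if_neg (Fin.castSucc_lt_last j).ne, sub_zero, Pi.single_apply]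
  simp only [Fin.castSucc_inj, eq_comm]

theorem vs_sum : ∑ i, vs F i = 0 := by
  rw [Fin.sum_univ_castSucc]
  funext k
  rw [Pi.add_apply, Finset.sum_apply, Pi.zero_apply]
  simp only [vs_castSucc, Pi.single_apply]
  rw [Finset.sum_ite_eq, if_pos (Finset.mem_univ _), vs, if_neg (Fin.castSucc_lt_last k).ne', if_pos rfl]
  ring

theorem vs_last : vs F (Fin.last 10) = -∑ j : Fin 10, vs F j.castSucc := by
  rw [eq_neg_iff_add_eq_zero, add_comm, ← Fin.sum_univ_castSucc, vs_sum]

theorem mf_col (σ : Equiv.Perm (Fin 11)) (j : Fin 10) : mf F σ *ᵥ vs F j.castSucc = vs F (σ j.castSucc) := by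
  rw [vs_castSucc, Matrix.mulVec_single_one]
  funext k
  rw [Matrix.col_apply, mf, Matrix.map_apply, mz, vs]
  simp

theorem mf_mulVec (σ : Equiv.Perm (Fin 11)) (i : Fin 11) : mf F σ *ᵥ vs F i = vs F (σ i) := by
  rcases Fin.eq_castSucc_or_eq_last i with ⟨j, rfl⟩ | rfl
  · exact mf_col F σ j
  · have h : ∑ i, vs F (σ i) = 0 := by
      rw [Equiv.sum_comp σ (vs F), vs_sum]
    rw [Fin.sum_univ_castSucc] at h
    rw [vs_last, Matrix.mulVec_neg, Matrix.mulVec_sum, Finset.sum_congr rfl fun j _ => mf_col F σ j,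
      neg_eq_iff_add_eq_zero, h]

theorem ext_vs {A B : Matrix (Fin 10) (Fin 10) F} (h : ∀ i, A *ᵥ vs F i = B *ᵥ vs F i) : A = B := by
  ext k j
  have h1 := congrFun (h j.castSucc) k
  rwa [vs_castSucc, Matrix.mulVec_single_one, Matrix.mulVec_single_one] at h1

/-- permutations as matrices -/
def mh : Equiv.Perm (Fin 11) →* Matrix (Fin 10) (Fin 10) F where
  toFun := mf F
  map_one' := by
    apply ext_vs
    intro i
    rw [mf_mulVec, Matrix.one_mulVec]
    rfl
  map_mul' σ τ := by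
    apply ext_vs
    intro i
    rw [mf_mulVec, ← Matrix.mulVec_mulVec, mf_mulVec, mf_mulVec]
    rfl

def mg : Equiv.Perm (Fin 11) →* GL (Fin 10) F := (mh F).toHomUnits

theorem mg_mulVec (σ : Equiv.Perm (Fin 11)) (i : Fin 11) :
    (mg F σ : Matrix (Fin 10) (Fin 10) F) *ᵥ vs F i = vs F (σ i) := mf_mulVec F σ i

theorem vs_injective : Function.Injective (vs F) := by
  intro i j h
  rcases Fin.eq_castSucc_or_eq_last i with ⟨i, rfl⟩ | rfl <;> rcases Fin.eq_castSucc_or_eq_last j with ⟨j, rfl⟩ | rfl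
  · rw [vs_castSucc, vs_castSucc] at h
    have h1 := congrFun h i
    rw [Pi.single_eq_same, Pi.single_apply] at h1
    by_contra hne
    rw [if_neg (fun e => hne (by rw [e]))] at h1
    exact one_ne_zero h1
  · exfalso
    rw [vs_castSucc] at h
    obtain ⟨k, hk⟩ : ∃ k : Fin 10, k ≠ i := exists_ne i
    have h1 := congrFun h k
    rw [Pi.single_eq_of_ne hk, vs, if_neg (Fin.castSucc_lt_last k).ne', if_pos rfl] at h1
    exact one_ne_zero (by linear_combination h1)
  · exfalso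
    rw [vs_castSucc] at h
    obtain ⟨k, hk⟩ : ∃ k : Fin 10, k ≠ j := exists_ne j
    have h1 := congrFun h k
    rw [Pi.single_eq_of_ne hk, vs, if_neg (Fin.castSucc_lt_last k).ne', if_pos rfl] at h1
    exact one_ne_zero (by linear_combination -h1)
  · rfl

theorem tr_mg (σ : Equiv.Perm (Fin 11)) : tr (mg F σ) = (((mz σ).trace : ℤ) : F) := by
  change (mf F σ).trace = _
  rw [mf, Matrix.trace, Matrix.trace, Int.cast_sum]
  rfl

end model

/-- the model -/
noncomputable def rhoE (F : Type u) [Field F] : SpecialLinearGroup (Fin 2) (ZMod 11) →* GL (Fin 10) F := (mg F).comp phi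

theorem trz_u : ∀ x : ZMod 11, x ≠ 0 → (mz (xp x)).trace = -1 := by decide +kernel

theorem trz_Zt : ∀ τ : ZMod 11, τ ^ 2 - 4 ≠ 0 → (mz (xp τ * wp)).trace = fz 1 τ := by decide +kernel

variable {F : Type u} [Field F] {P : Subgroup (GL (Fin 10) F)}

/-- **Representations with the same traces are conjugate.** -/
theorem exists_J (hC : Core P) {ρ : SpecialLinearGroup (Fin 2) (ZMod 11) →* GL (Fin 10) F} (hρ : ρ.range = P)
    (hz : ρ (t (-1)) = 1) {s : ℤ} (hu : ∀ x : ZMod 11, x ≠ 0 → tr (ρ (u x)) = -1)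
    (hZ : ∀ τ : ZMod 11, τ ^ 2 - 4 ≠ 0 → tr (ρ (Zt τ)) = ((fz s τ : ℤ) : F))
    {ρ' : SpecialLinearGroup (Fin 2) (ZMod 11) →* GL (Fin 10) F} (hz' : ρ' (t (-1)) = 1)
    (hu' : ∀ x : ZMod 11, x ≠ 0 → tr (ρ' (u x)) = -1)
    (hZ' : ∀ τ : ZMod 11, τ ^ 2 - 4 ≠ 0 → tr (ρ' (Zt τ)) = ((fz s τ : ℤ) : F)) :
    ∃ J : GL (Fin 10) F, ∀ g, ρ' g = J * ρ g * J⁻¹ := by
  refine H920.exists_conj_of_trace ρ ρ' (adjoin_range hC ρ hρ) (tr_ext (by rw [ZMod.card]; norm_num) hz hz' ?_ ?_)
  · intro x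
    by_cases hx : x = 0
    · rw [hx, u_zero, map_one, map_one]
    · rw [hu x hx, hu' x hx]
  · intro τ hτ
    rw [hZ τ hτ, hZ' τ hτ]

theorem rhoE_neg : rhoE F (t (-1)) = 1 := by
  rw [rhoE, MonoidHom.comp_apply, phi_neg, map_one]

theorem rhoE_u (x : ZMod 11) (hx : x ≠ 0) : tr (rhoE F (u x)) = -1 := by
  rw [rhoE, MonoidHom.comp_apply, phi_u, tr_mg, trz_u x hx]
  norm_num

theorem rhoE_Zt (τ : ZMod 11) (hτ : τ ^ 2 - 4 ≠ 0) : tr (rhoE F (Zt τ)) = ((fz 1 τ : ℤ) : F) := by
  rw [rhoE, MonoidHom.comp_apply, Zt, map_mul, phi_u, phi_w, tr_mg, trz_Zt τ hτ]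

end Cfsg.Agent.H830.O10
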