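import Cfsg.Agent.H830.O10.Common
import Cfsg.Agent.H933.O10.DelNM

/-!
# The eleven-point model: the outer element, and the kill (helper830)
-/

set_option autoImplicit false
set_option linter.unusedSectionVars false

namespace Cfsg.Agent.H830.O10

open Matrix Module Cfsg Cfsg.Geo Cfsg.Agent.H915.LD Cfsg.Agent.H464.Sl2 Cfsg.Agent.H910.Aut
open Cfsg.Agent.H933.O10 (Cx fix_of_mem_omegaGL)
open Cfsg.Agent.ClassicalGeometry.AutPSL.Auto (cj)

universe u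

/-- the nonresidues -/
def nq : Finset (Fin 11) := {2, 6, 7, 8, 10}

/-- the incidence matrix: `v i ↦ ∑_{r ∈ nq} v (r - i)` -/
def dz : Matrix (Fin 10) (Fin 10) ℤ := fun k j =>
  ∑ r ∈ nq, ((if r - j.castSucc = k.castSucc then 1 else 0) - (if r - j.castSucc = Fin.last 10 then 1 else 0))

theorem dz_sq : dz * dz = (3 : ℤ) • (1 : Matrix (Fin 10) (Fin 10) ℤ) := by decide +kernel

theorem dz_u : ∀ x : ZMod 11, dz * mz (xp x) = mz (xp (-x)) * dz := by decide +kernel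

theorem dz_h : ∀ a : ZMod 11, a ≠ 0 → dz * mz (hp a) = mz (hp a) * dz := by decide +kernel

theorem dz_w : dz * mz wp = mz wp * dz := by decide +kernel

theorem dz_col : ∀ k : Fin 10, dz k 0 = ∑ r ∈ nq, ((if r = k.castSucc then 1 else 0) - (if r = Fin.last 10 then 1 else 0)) := by
  decide +kernel

section model

variable (F : Type u) [Field F]

def dF : Matrix (Fin 10) (Fin 10) F := dz.map (Int.castRingHom F)

theorem dF_sq : dF F * dF F = (3 : F) • (1 : Matrix (Fin 10) (Fin 10) F) := by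
  rw [dF, ← Matrix.map_mul, dz_sq]
  ext i j
  rw [Matrix.map_apply, Matrix.smul_apply, Matrix.smul_apply, Matrix.one_apply, Matrix.one_apply]
  split <;> simp

theorem dF_mul {σ τ : Equiv.Perm (Fin 11)} (h : dz * mz σ = mz τ * dz) : dF F * mf F σ = mf F τ * dF F := by
  rw [dF, mf, mf, ← Matrix.map_mul, ← Matrix.map_mul, h]

theorem dF_vs : dF F *ᵥ vs F 0 = ∑ r ∈ nq, vs F r := by
  have h0 : vs F 0 = Pi.single 0 1 := vs_castSucc F 0
  rw [h0, Matrix.mulVec_single_one]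
  funext k
  rw [Matrix.col_apply, dF, Matrix.map_apply, dz_col, Finset.sum_apply, map_sum]
  refine Finset.sum_congr rfl fun r _ => ?_
  rw [vs]
  simp

/-- the outer element -/
def dE (h3 : (3 : F) ≠ 0) : GL (Fin 10) F where
  val := dF F
  inv := (3 : F)⁻¹ • dF F
  val_inv := by rw [Matrix.mul_smul, dF_sq, smul_smul, inv_mul_cancel₀ h3, one_smul]
  inv_val := by rw [Matrix.smul_mul, dF_sq, smul_smul, inv_mul_cancel₀ h3, one_smul]

theorem dE_twist (h3 : (3 : F) ≠ 0) (g : SpecialLinearGroup (Fin 2) (ZMod 11)) :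
    dE F h3 * rhoE F g * (dE F h3)⁻¹ = rhoE F (cj dd g) := by
  refine twist_of_gen rhoE_neg ?_ ?_ ?_ g
  · intro x
    rw [mul_inv_eq_iff_eq_mul, rhoE, MonoidHom.comp_apply, MonoidHom.comp_apply, phi_u, phi_u]
    exact Units.ext (dF_mul F (dz_u x))
  · intro a
    rw [mul_inv_eq_iff_eq_mul, rhoE, MonoidHom.comp_apply, phi_t]
    exact Units.ext (dF_mul F (dz_h a a.ne_zero))
  · rw [mul_inv_eq_iff_eq_mul, rhoE, MonoidHom.comp_apply, phi_w]
    exact Units.ext (dF_mul F dz_w)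

def A2 : Matrix (Fin 10) (Fin 5) (ZMod 2) := !![0, 0, 1, 0, 0; 1, 0, 0, 0, 1; 0, 0, 1, 1, 1; 1, 0, 0, 1, 1; 1, 0, 1, 0, 0; 1, 1, 1, 0, 0; 0, 1, 1, 1, 0; 0, 1, 0, 0, 0; 0, 0, 1, 0, 1; 1, 1, 0, 1, 0]
def B2 : Matrix (Fin 5) (Fin 10) (ZMod 2) := !![1, 0, 0, 1, 0, 0, 0, 1, 1, 1; 0, 1, 0, 0, 0, 0, 1, 0, 1, 1; 0, 0, 1, 1, 0, 0, 1, 0, 0, 1; 0, 0, 0, 0, 1, 0, 1, 0, 0, 1; 0, 0, 0, 0, 0, 1, 1, 1, 0, 1]
def L2 : Matrix (Fin 5) (Fin 10) (ZMod 2) := !![1, 0, 1, 1, 0, 0, 0, 0, 0, 0; 0, 0, 1, 1, 0, 1, 0, 0, 0, 0; 1, 0, 0, 0, 0, 0, 0, 0, 0, 0; 0, 1, 0, 1, 0, 0, 0, 0, 0, 0; 1, 1, 1, 1, 0, 0, 0, 0, 0, 0]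
def R2 : Matrix (Fin 10) (Fin 5) (ZMod 2) := !![1, 0, 0, 0, 0; 0, 1, 0, 0, 0; 0, 0, 1, 0, 0; 0, 0, 0, 0, 0; 0, 0, 0, 1, 0; 0, 0, 0, 0, 1; 0, 0, 0, 0, 0; 0, 0, 0, 0, 0; 0, 0, 0, 0, 0; 0, 0, 0, 0, 0]

theorem fac2 : A2 * B2 = dz.map (Int.castRingHom (ZMod 2)) - 1 := by decide +kernel

theorem lac2 : L2 * A2 = 1 := by decide +kernel

theorem rac2 : B2 * R2 = 1 := by decide +kernel

theorem rank_dF [CharP F 2] : (dF F - 1).rank = 5 := by
  let f : ZMod 2 →+* F := ZMod.castHom (dvd_refl 2) F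
  have h1 : dF F - 1 = A2.map f * B2.map f := by
    rw [← Matrix.map_mul, fac2, dF]
    ext i j
    simp [Matrix.one_apply]
  have h2 : L2.map f * A2.map f = 1 := by
    rw [← Matrix.map_mul, lac2, Matrix.map_one f (map_zero f) (map_one f)]
  have h3 : B2.map f * R2.map f = 1 := by
    rw [← Matrix.map_mul, rac2, Matrix.map_one f (map_zero f) (map_one f)]
  rw [h1]
  apply le_antisymm
  · exact (Matrix.rank_mul_le_left _ _).trans (Matrix.rank_le_width _)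
  · have h4 : L2.map f * (A2.map f * B2.map f) * R2.map f = 1 := by
      rw [← Matrix.mul_assoc, h2, Matrix.one_mul, h3]
    have h5 : (1 : Matrix (Fin 5) (Fin 5) F).rank = 5 := by rw [Matrix.rank_one, Fintype.card_fin]
    calc 5 = (L2.map f * (A2.map f * B2.map f) * R2.map f).rank := by rw [h4, h5]
      _ ≤ (A2.map f * B2.map f).rank := (Matrix.rank_mul_le_left _ _).trans (Matrix.rank_mul_le_right _ _)

end model

/-! ### The kill -/

variable {F : Type u} [Field F] [Fintype F] {p : ℕ} {Q : (Fin 10 → F) → F} {H P : Subgroup (GL (Fin 10) F)}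

/-- the setting of the eleven-point model -/
structure Ctx (ρ : SpecialLinearGroup (Fin 2) (ZMod 11) →* GL (Fin 10) F) (J : GL (Fin 10) F) : Prop where
  conj : ∀ g, rhoE F g = J * ρ g * J⁻¹

namespace Ctx

variable {ρ : SpecialLinearGroup (Fin 2) (ZMod 11) →* GL (Fin 10) F} {J : GL (Fin 10) F} (c : Ctx ρ J)

/-- the eleven vectors -/
def vv (J : GL (Fin 10) F) (i : Fin 11) : Fin 10 → F := ((J⁻¹ : GL (Fin 10) F) : Matrix (Fin 10) (Fin 10) F) *ᵥ vs F i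

include c in
theorem rho_eq (g : SpecialLinearGroup (Fin 2) (ZMod 11)) : ρ g = J⁻¹ * rhoE F g * J := by
  rw [c.conj]
  group

include c in
theorem rho_vv (g : SpecialLinearGroup (Fin 2) (ZMod 11)) (i : Fin 11) :
    (ρ g : Matrix (Fin 10) (Fin 10) F) *ᵥ vv J i = vv J (phi g i) := by
  rw [c.rho_eq, vv, Matrix.mulVec_mulVec, ← Units.val_mul, mul_assoc, mul_inv_cancel, mul_one, Units.val_mul,
    ← Matrix.mulVec_mulVec, vv, rhoE]
  exact congrArg _ (mg_mulVec F (phi g) i)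

theorem vv_injective : Function.Injective (vv J) := fun _ _ h => vs_injective F (mulVec_inj _ h)

theorem vv_sum : ∑ i, vv J i = 0 := by
  rw [← Matrix.mulVec_zero ((J⁻¹ : GL (Fin 10) F) : Matrix (Fin 10) (Fin 10) F), ← vs_sum F, Matrix.mulVec_sum]
  rfl

theorem vv_ne (i : Fin 11) : vv J i ≠ 0 := by
  intro h
  obtain ⟨j, hj⟩ : ∃ j : Fin 11, j ≠ i := exists_ne i
  have h1 : ∀ k : Fin 11, k.val < 10 → vs F k ≠ 0 := by
    intro k hk h2
    obtain ⟨k', rfl⟩ : ∃ k' : Fin 10, k = k'.castSucc := ⟨⟨k.val, hk⟩, rfl⟩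
    rw [vs_castSucc] at h2
    have h3 := congrFun h2 k'
    rw [Pi.single_eq_same] at h3
    exact one_ne_zero h3
  have h2 : vs F i = 0 := by
    apply mulVec_inj J⁻¹
    rw [Matrix.mulVec_zero]
    exact h
  by_cases hi : i.val < 10
  · exact h1 i hi h2
  · have hi' : i = Fin.last 10 := by
      apply Fin.ext
      rw [Fin.val_last]
      omega
    rw [hi'] at h2
    have h3 := congrFun h2 0
    rw [vs, if_neg (by decide), if_pos rfl, Pi.zero_apply] at h3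
    exact one_ne_zero (by linear_combination -h3)

theorem trans_cases : ∀ i j : Fin 11, i ≠ 0 → j ≠ 0 → ∃ a b : ZMod 11, a ≠ 0 ∧ b ≠ 0 ∧
    (hp a (hp b i) = j ∨ hp a ((xp (-4) * wp * xp 3 : Equiv.Perm (Fin 11)) (hp b i)) = j ∨
      hp a ((xp (-4) * wp * xp 3 : Equiv.Perm (Fin 11))⁻¹ (hp b i)) = j) := by
  decide +kernel

theorem hp_zero (a : ZMod 11) : hp a 0 = 0 := by
  revert a
  decide +kernel

theorem k0_zero : (xp (-4) * wp * xp 3 : Equiv.Perm (Fin 11)) 0 = 0 := by decide +kernel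

/-- 2-transitivity -/
theorem exists_trans {i j : Fin 11} (hi : i ≠ 0) (hj : j ≠ 0) : ∃ g, phi g 0 = 0 ∧ phi g i = j := by
  obtain ⟨a, b, ha, hb, h⟩ := trans_cases i j hi hj
  have hk : phi (u (-4) * w 1 * u 3) = xp (-4) * wp * xp 3 := by
    rw [map_mul, map_mul, phi_u, phi_u, phi_w]
  have ht : ∀ a : ZMod 11, a ≠ 0 → ∃ g, phi g = hp a := fun a ha => ⟨t (Units.mk0 a ha), phi_t _⟩
  obtain ⟨ga, hga⟩ := ht a ha
  obtain ⟨gb, hgb⟩ := ht b hb
  have hk0 := k0_zero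
  rw [← hk] at hk0
  have hk0' : (phi (u (-4) * w 1 * u 3))⁻¹ 0 = 0 := by
    rw [Equiv.Perm.inv_eq_iff_eq]
    exact hk0.symm
  rcases h with h | h | h
  · refine ⟨ga * gb, ?_, ?_⟩
    · rw [map_mul, hga, hgb, Equiv.Perm.mul_apply, hp_zero, hp_zero]
    · rw [map_mul, hga, hgb, Equiv.Perm.mul_apply, h]
  · rw [← hk] at h
    refine ⟨ga * (u (-4) * w 1 * u 3) * gb, ?_, ?_⟩
    · rw [map_mul, map_mul, hga, hgb, Equiv.Perm.mul_apply, Equiv.Perm.mul_apply, hp_zero, hk0, hp_zero]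
    · rw [map_mul, map_mul, hga, hgb, Equiv.Perm.mul_apply, Equiv.Perm.mul_apply, h]
  · rw [← hk] at h
    refine ⟨ga * (u (-4) * w 1 * u 3)⁻¹ * gb, ?_, ?_⟩
    · rw [map_mul, map_mul, map_inv, hga, hgb, Equiv.Perm.mul_apply, Equiv.Perm.mul_apply, hp_zero, hk0', hp_zero]
    · rw [map_mul, map_mul, map_inv, hga, hgb, Equiv.Perm.mul_apply, Equiv.Perm.mul_apply, h]

/-- transitivity -/
theorem exists_to (i : Fin 11) : ∃ g, phi g 0 = i := by
  refine ⟨u (show ZMod 11 from i), ?_⟩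
  exact (congrArg (fun σ : Equiv.Perm (Fin 11) => σ 0) (phi_u (show ZMod 11 from i))).trans
    (zero_add (show ZMod 11 from i))

include c in
/-- **The kill, from the triviality of the normaliser.** -/
theorem kill (h : Cx p Q H P) (hρ : ρ.range = P)
    (hN : ∀ x ∈ H, ∃ (s : SpecialLinearGroup (Fin 2) (ZMod 11)) (a : F),
      (x : Matrix (Fin 10) (Fin 10) F) = a • (ρ s : Matrix (Fin 10) (Fin 10) F)) :
    Nonempty (Soc P ≃* alternatingGroup (Fin 11)) ∧ (11 : F) ≠ 0 ∧ (2 : F) ≠ 0 ∧ (3 : F) ≠ 0 := by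
  have hmem : ∀ g, ρ g ∈ P := fun g => hρ ▸ ⟨g, rfl⟩
  have hP : ∀ g ∈ P, ∃ s, ρ s = g := fun g hg => by rwa [← hρ] at hg
  refine Cx.eleven h (K := K0 P (vv J 0)) (v0 := vv J 0) ?_ (vv_ne 0) (fun k hk => hk) ?_ ?_
  · refine index_K0 vv_injective 0 ?_ ?_
    · intro g hg
      obtain ⟨s, rfl⟩ := hP g hg
      exact ⟨_, c.rho_vv s 0⟩
    · intro i
      obtain ⟨s, hs⟩ := exists_to i
      exact ⟨ρ s, hmem s, by rw [c.rho_vv, hs]⟩
  · rintro ⟨g, hg⟩ hgK ⟨g', hg'⟩ hgK'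
    obtain ⟨s, rfl⟩ := hP g hg
    obtain ⟨s', rfl⟩ := hP g' hg'
    rw [mem_K0, c.rho_vv] at hgK hgK'
    have h1 : phi s 0 ≠ 0 := fun h => hgK (by rw [h])
    have h2 : phi s' 0 ≠ 0 := fun h => hgK' (by rw [h])
    obtain ⟨k, hk0, hk⟩ := exists_trans h1 h2
    refine ⟨⟨ρ k, hmem k⟩, by rw [mem_K0, c.rho_vv, hk0], ⟨ρ (s⁻¹ * k⁻¹ * s'), hmem _⟩, ?_, ?_⟩
    · rw [mem_K0, c.rho_vv, map_mul, map_mul, Equiv.Perm.mul_apply, Equiv.Perm.mul_apply, map_inv, map_inv, ← hk]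
      simp
    · apply Subtype.ext
      change ρ s' = ρ k * ρ s * ρ (s⁻¹ * k⁻¹ * s')
      rw [← map_mul, ← map_mul]
      congr 1
      group
  · intro x hx
    obtain ⟨s, a, ha⟩ := hN x hx
    exact ⟨ρ s, hmem s, a, by rw [ha, Matrix.smul_mulVec]⟩

end Ctx

end Cfsg.Agent.H830.O10
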