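import Cfsg.Agent.H830.O10.EleD

/-!
# `L₂(11) < A₁₁` in dimension 10: `|F| = 2`, and `|F| = 7` with the characters of the eleven points (helper830)
-/

set_option autoImplicit false
set_option linter.unusedSectionVars false

namespace Cfsg.Agent.H830.O10

open Matrix Module Cfsg Cfsg.Geo Cfsg.Agent.H915.LD Cfsg.Agent.H464.Sl2 Cfsg.Agent.H910.Aut
open Cfsg.Agent.H933.O10 (Cx fix_of_mem_omegaGL)
open Cfsg.Agent.ClassicalGeometry.AutPSL.Auto (cj)

universe u

variable {F : Type u} [Field F] [Fintype F] {p : ℕ} {Q : (Fin 10 → F) → F} {H P : Subgroup (GL (Fin 10) F)}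

theorem char_of_card (h : Cx p Q H P) {q : ℕ} (hq : q.Prime) (hF : Fintype.card F = q) : p = q := by
  have := h.char
  have h1 : ((Fintype.card F : ℕ) : F) = 0 := Nat.cast_card_eq_zero F
  rw [hF] at h1
  exact (Nat.prime_dvd_prime_iff_eq h.prime hq).1 ((CharP.cast_eq_zero_iff F p q).1 h1)

/-- the outer element acts as an outer automorphism on `ρ` -/
theorem twist_conj {ρ ρ' : SpecialLinearGroup (Fin 2) (ZMod 11) →* GL (Fin 10) F} {J D : GL (Fin 10) F}
    (hJ : ∀ g, ρ' g = J * ρ g * J⁻¹) (hD : ∀ g, D * ρ' g * D⁻¹ = ρ' (cj dd g))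
    (g : SpecialLinearGroup (Fin 2) (ZMod 11)) : (J⁻¹ * D * J) * ρ g * (J⁻¹ * D * J)⁻¹ = ρ (cj dd g) := by
  have h1 := hD g
  rw [hJ, hJ] at h1
  calc (J⁻¹ * D * J) * ρ g * (J⁻¹ * D * J)⁻¹ = J⁻¹ * (D * (J * ρ g * J⁻¹) * D⁻¹) * J := by group
    _ = ρ (cj dd g) := by rw [h1]; group

theorem scalar_mul_ne {x y : GL (Fin 10) F} {c : F} (h : (x : Matrix (Fin 10) (Fin 10) F) = c • (y : Matrix (Fin 10) (Fin 10) F)) :
    c ≠ 0 := by
  rintro rfl
  rw [zero_smul] at h
  have h1 := x.isUnit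
  rw [h] at h1
  exact not_isUnit_zero h1

/-- **`|F| = 2`.** -/
theorem kill_two (h : Cx p Q H P) (hF : Fintype.card F = 2)
    (e : Soc P ≃* ProjectiveSpecialLinearGroup (Fin 2) (ZMod 11)) : False := by
  obtain rfl := char_of_card h Nat.prime_two hF
  have hch := h.char
  have h20 : (2 : F) = 0 := by exact_mod_cast CharP.cast_eq_zero F 2
  obtain ⟨ρ, hρ, hρe, hz, hu, s, hs, -, hZ⟩ := exists_rho h (by norm_num) e
  obtain ⟨J, hJ⟩ := exists_J h.core hρ hz hu hZ (rhoE_neg (F := F)) rhoE_u (by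
    intro τ hτ
    rw [rhoE_Zt τ hτ]
    rcases hs with rfl | rfl
    · rfl
    · unfold fz
      split_ifs
      · push_cast
        linear_combination 2 * h20
      · rfl
      · push_cast
        linear_combination -h20
      · rfl)
  have c : Ctx ρ J := ⟨hJ⟩
  have h3 : (3 : F) ≠ 0 := by
    intro h3
    exact one_ne_zero (show (1 : F) = 0 by linear_combination h3 - h20)
  refine (c.kill h hρ ?_).2.2.1 h20
  intro x hx
  obtain ⟨g, a, hg | hg⟩ := nrm_cases h.core e ρ hρ hρe (twist_conj hJ (dE_twist F h3)) (Nrm.of_core h.hc hx)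
  · exact ⟨g, a, hg⟩
  · exfalso
    have ha : a = 1 := by
      have h1 := FiniteField.pow_card_sub_one_eq_one a (scalar_mul_ne hg)
      rwa [hF, pow_one] at h1
    rw [ha, one_smul] at hg
    have hx' : x = ρ g * (J⁻¹ * dE F h3 * J) := Units.ext hg
    have hD : J⁻¹ * dE F h3 * J ∈ omegaGL Q := by
      have h1 : J⁻¹ * dE F h3 * J = (ρ g)⁻¹ * x := by rw [hx']; group
      rw [h1]
      exact (omegaGL Q).mul_mem ((omegaGL Q).inv_mem (h.le_omega (hρ ▸ ⟨g, rfl⟩))) (h.hH.1.le hx)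
    obtain ⟨y, hy, hy2⟩ := hD
    obtain ⟨R, hR, hRn⟩ := H883.Bridge.exists_quadraticForm h.hQ
    have h1 := (H80.mem_Omega_iff h20 hR (by
      intro v hv
      by_contra hne
      obtain ⟨-, z, hz⟩ := h.hQ.nondegenerate v hne
      rw [← hR] at hz
      exact hz (hv z)) (by rw [Fintype.card_fin]; norm_num) y).1 hy
    have h2 : H80.mat y - 1 = ((J⁻¹ : GL (Fin 10) F) : Matrix (Fin 10) (Fin 10) F) * (dF F - 1) *
        (J : Matrix (Fin 10) (Fin 10) F) := by
      have h4 : H80.mat y = ((J⁻¹ : GL (Fin 10) F) : Matrix (Fin 10) (Fin 10) F) * dF F *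
          (J : Matrix (Fin 10) (Fin 10) F) := by
        change ((y : GL (Fin 10) F) : Matrix (Fin 10) (Fin 10) F) = _
        have h5 : ((isometryGroup F Q).subtype y : GL (Fin 10) F) = (y : GL (Fin 10) F) := rfl
        rw [← h5, hy2, Units.val_mul, Units.val_mul]
        rfl
      rw [h4, Matrix.mul_sub, Matrix.sub_mul, Matrix.mul_one, ← Units.val_mul J⁻¹ J, inv_mul_cancel, Units.val_one]
    have h3 : (H80.mat y - 1).rank = 5 := by
      rw [h2, Matrix.rank_mul_eq_left_of_isUnit_det _ _ ((Matrix.isUnit_iff_isUnit_det _).1 J.isUnit),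
        Matrix.rank_mul_eq_right_of_isUnit_det _ _ ((Matrix.isUnit_iff_isUnit_det _).1 J⁻¹.isUnit), rank_dF]
    rw [h3] at h1
    exact absurd h1 (by decide)

/-- **`|F| = 7`, the characters of the eleven points.** -/
theorem kill_seven_one (h : Cx p Q H P) (hF : Fintype.card F = 7)
    (e : Soc P ≃* ProjectiveSpecialLinearGroup (Fin 2) (ZMod 11))
    {ρ : SpecialLinearGroup (Fin 2) (ZMod 11) →* GL (Fin 10) F} (hρ : ρ.range = P)
    (hρe : ∀ (g : SpecialLinearGroup (Fin 2) (ZMod 11)) (h : ρ g ∈ P), e (toSoc P ⟨ρ g, h⟩) = QuotientGroup.mk g)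
    (hz : ρ (t (-1)) = 1) (hu : ∀ x : ZMod 11, x ≠ 0 → tr (ρ (u x)) = -1)
    (hZ : ∀ τ : ZMod 11, τ ^ 2 - 4 ≠ 0 → tr (ρ (Zt τ)) = ((fz 1 τ : ℤ) : F)) : False := by
  obtain rfl := char_of_card h (by norm_num) hF
  have hch := h.char
  have h70 : (7 : F) = 0 := by exact_mod_cast CharP.cast_eq_zero F 7
  obtain ⟨J, hJ⟩ := exists_J h.core hρ hz hu hZ (rhoE_neg (F := F)) rhoE_u rhoE_Zt
  have c : Ctx ρ J := ⟨hJ⟩
  have h3 : (3 : F) ≠ 0 := by
    intro h3
    exact one_ne_zero (show (1 : F) = 0 by linear_combination h70 - 2 * h3)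
  refine no_alt (Or.inl rfl) ⟨e⟩ (c.kill h hρ ?_).1
  intro x hx
  obtain ⟨g, a, hg | hg⟩ := nrm_cases h.core e ρ hρ hρe (twist_conj hJ (dE_twist F h3)) (Nrm.of_core h.hc hx)
  · exact ⟨g, a, hg⟩
  · exfalso
    have ha := FiniteField.pow_card_sub_one_eq_one a (scalar_mul_ne hg)
    rw [hF] at ha
    obtain ⟨R, hR, hRn⟩ := H883.Bridge.exists_quadraticForm h.hQ
    have hfix : ∀ (s : SpecialLinearGroup (Fin 2) (ZMod 11)) (v : Fin 10 → F),
        R ((ρ s : Matrix (Fin 10) (Fin 10) F) *ᵥ v) = R v := by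
      intro s v
      rw [hR]
      exact fix_of_mem_omegaGL (h.le_omega (hρ ▸ ⟨s, rfl⟩)) v
    have hpol : ∀ (s : SpecialLinearGroup (Fin 2) (ZMod 11)) (v w : Fin 10 → F),
        QuadraticMap.polar R ((ρ s : Matrix (Fin 10) (Fin 10) F) *ᵥ v) ((ρ s : Matrix (Fin 10) (Fin 10) F) *ᵥ w) =
          QuadraticMap.polar R v w := by
      intro s v w
      rw [QuadraticMap.polar, ← mulVec_add, hfix, hfix, hfix]
      rfl
    have hb : ∀ i, R (Ctx.vv J i) = R (Ctx.vv J 0) := by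
      intro i
      obtain ⟨s, hs⟩ := Ctx.exists_to i
      rw [← hs, ← c.rho_vv, hfix]
    have hg0 : ∀ j, j ≠ 0 → QuadraticMap.polar R (Ctx.vv J 0) (Ctx.vv J j) =
        QuadraticMap.polar R (Ctx.vv J 0) (Ctx.vv J 1) := by
      intro j hj
      obtain ⟨s, hs0, hs⟩ := Ctx.exists_trans (i := 1) (j := j) (by decide) hj
      rw [← hpol s (Ctx.vv J 0) (Ctx.vv J 1), c.rho_vv, c.rho_vv, hs0, hs]
    have hgr : H882.Del.Gr R (Ctx.vv J) (QuadraticMap.polar R (Ctx.vv J 0) (Ctx.vv J 1)) := by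
      intro i j hij
      obtain ⟨s, hs⟩ := Ctx.exists_to i
      have h1 := hpol s (Ctx.vv J 0) (Ctx.vv J (phi s⁻¹ j))
      rw [c.rho_vv, c.rho_vv, hs, ← Equiv.Perm.mul_apply, ← map_mul, mul_inv_cancel, map_one, Equiv.Perm.one_apply] at h1
      rw [h1]
      apply hg0
      intro h2
      apply hij
      rw [← hs, ← h2, ← Equiv.Perm.mul_apply, ← map_mul, mul_inv_cancel, map_one, Equiv.Perm.one_apply]
    have hsum := H933.O10.map_sum_gr hgr hb Finset.univ
    rw [Ctx.vv_sum, QuadraticMap.map_zero, Finset.card_univ, Fintype.card_fin, show (11 : ℕ).choose 2 = 55 by decide] at hsum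
    have hsum5 := H933.O10.map_sum_gr hgr hb nq
    rw [show nq.card = 5 from rfl, show (5 : ℕ).choose 2 = 10 by decide] at hsum5
    push_cast at hsum hsum5
    -- the image of `vv 0`
    have hx0 : R ((x : Matrix (Fin 10) (Fin 10) F) *ᵥ Ctx.vv J 0) = R (Ctx.vv J 0) := by
      rw [hR]
      exact fix_of_mem_omegaGL (h.hH.1.le hx) _
    have hDv : ((J⁻¹ * dE F h3 * J : GL (Fin 10) F) : Matrix (Fin 10) (Fin 10) F) *ᵥ Ctx.vv J 0 =
        ∑ r ∈ nq, Ctx.vv J r := by
      rw [Ctx.vv, Matrix.mulVec_mulVec, ← Units.val_mul, mul_assoc, mul_inv_cancel, mul_one, Units.val_mul,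
        ← Matrix.mulVec_mulVec]
      change ((J⁻¹ : GL (Fin 10) F) : Matrix (Fin 10) (Fin 10) F) *ᵥ (dF F *ᵥ vs F 0) = _
      rw [dF_vs, Matrix.mulVec_sum]
      rfl
    rw [hg, Matrix.smul_mulVec, Units.val_mul, ← Matrix.mulVec_mulVec, hDv, QuadraticMap.map_smul, hfix, hsum5,
      smul_eq_mul] at hx0
    have hb0 : R (Ctx.vv J 0) ≠ 0 := by
      intro hb0
      have ha0 : QuadraticMap.polar R (Ctx.vv J 0) (Ctx.vv J 1) = 0 := by
        rw [hb0] at hsum
        linear_combination hsum + 8 * QuadraticMap.polar R (Ctx.vv J 0) (Ctx.vv J 1) * h70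
      obtain ⟨-, z, hz⟩ := h.hQ.nondegenerate (Ctx.vv J 0) (Ctx.vv_ne 0)
      apply hz
      rw [← hR]
      have hzz : z = ∑ k : Fin 10, ((J : Matrix (Fin 10) (Fin 10) F) *ᵥ z) k • Ctx.vv J k.castSucc := by
        have h1 : (J : Matrix (Fin 10) (Fin 10) F) *ᵥ z =
            ∑ k : Fin 10, ((J : Matrix (Fin 10) (Fin 10) F) *ᵥ z) k • vs F k.castSucc := by
          simp only [vs_castSucc]
          exact pi_eq_sum_univ' _
        apply mulVec_inj J
        rw [Matrix.mulVec_sum]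
        conv_lhs => rw [h1]
        refine Finset.sum_congr rfl fun k _ => ?_
        rw [Matrix.mulVec_smul, Ctx.vv, Matrix.mulVec_mulVec, ← Units.val_mul, mul_inv_cancel, Units.val_one,
          Matrix.one_mulVec]
      have hlin : ∀ j, QuadraticMap.polarBilin R (Ctx.vv J 0) (Ctx.vv J j) = 0 := by
        intro j
        change QuadraticMap.polar R (Ctx.vv J 0) (Ctx.vv J j) = 0
        by_cases hj : j = 0
        · rw [hj, QuadraticMap.polar_self, hb0, smul_zero]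
        · rw [hg0 j hj, ha0]
      change QuadraticMap.polarBilin R (Ctx.vv J 0) z = 0
      rw [hzz, map_sum]
      exact Finset.sum_eq_zero fun k _ => by rw [map_smul, hlin, smul_zero]
    have h1 : (3 * a ^ 2 - 1) * R (Ctx.vv J 0) = 0 := by
      linear_combination hx0 + 4 * a ^ 2 * hsum + a ^ 2 * (6 * R (Ctx.vv J 0) +
        30 * QuadraticMap.polar R (Ctx.vv J 0) (Ctx.vv J 1)) * h70
    have h2 : 3 * a ^ 2 - 1 = 0 := (mul_eq_zero.1 h1).resolve_right hb0
    have h4 : (5 : F) = 0 := by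
      linear_combination (9 * a ^ 4 + 3 * a ^ 2 + 1) * h2 - 27 * ha - 3 * h70
    exact one_ne_zero (show (1 : F) = 0 by linear_combination 3 * h4 - 2 * h70)

end Cfsg.Agent.H830.O10
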