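import Cfsg.Agent.H830.O10.Twe
import Cfsg.Agent.H830.O10.Sev.Kill

/-!
# `L₂(11)` in dimension 10: not maximal for `|F| = 2, 3, 7` (helper830)
-/

set_option autoImplicit false
set_option linter.unusedSectionVars false

namespace Cfsg.Agent.H830.O10

open Matrix Cfsg Cfsg.Geo Cfsg.Agent.H915.LD Cfsg.Agent.H464.Sl2
open Cfsg.Agent.H933.O10 (Cx)

universe u

variable {F : Type u} [Field F] [Fintype F] {p : ℕ} {Q : (Fin 10 → F) → F} {H P : Subgroup (GL (Fin 10) F)}

/-- `|F| = 7` -/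
theorem kill_seven (h : Cx p Q H P) (hF : Fintype.card F = 7)
    (e : Soc P ≃* ProjectiveSpecialLinearGroup (Fin 2) (ZMod 11)) : False := by
  have hp := char_of_card h (by norm_num) hF
  obtain ⟨ρ, hρ, hρe, hz, hu, s, hs, -, hZ⟩ := exists_rho h (by omega) e
  rcases hs with rfl | rfl
  · exact kill_seven_one h hF e hρ hρe hz hu hZ
  · exact Sev.kill h hF e hρ hρe hz hu hZ

/-- **`L₂(11)`, dimension 10.** The hypothesis `rl` of `Cfsg.Agent.H933.O10.cross`. -/
theorem l2_eleven (h : Cx p Q H P) (e : Nonempty (Soc P ≃* ProjectiveSpecialLinearGroup (Fin 2) (ZMod 11))) :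
    Fintype.card F ≠ 2 ∧ Fintype.card F ≠ 3 ∧ Fintype.card F ≠ 7 := by
  obtain ⟨e⟩ := e
  exact ⟨fun hF => kill_two h hF e, fun hF => Twe.kill_three h hF e, fun hF => kill_seven h hF e⟩

end Cfsg.Agent.H830.O10
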