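import Cfsg.Agent.H830.O10.Chi
import Cfsg.Agent.H910.Six.Aut
import Cfsg.Agent.ClassicalGeometry.AutPSL.Main

/-!
# The normaliser of a core with socle `L₂(11)` (helper830)
-/

set_option autoImplicit false
set_option linter.unusedSectionVars false

namespace Cfsg.Agent.H830.O10

open Matrix Module Cfsg Cfsg.Geo Cfsg.Agent.H915.LD Cfsg.Agent.H464.Sl2 Cfsg.Agent.H910.Aut
open Cfsg.Agent.ClassicalGeometry.AutPSL.Auto (cj fld lift lift_pr coe_cj)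
open Cfsg.Agent.ClassicalGeometry.AutPSL.Root (pr)

universe u

/-- the diagonal element -/
def dd : GL (Fin 2) (ZMod 11) where
  val := !![-1, 0; 0, 1]
  inv := !![-1, 0; 0, 1]
  val_inv := by decide +kernel
  inv_val := by decide +kernel

theorem cj_dd_u (x : ZMod 11) : cj dd (u x) = u (-x) := by
  apply Subtype.ext
  rw [coe_cj]
  change !![-1, 0; 0, 1] * !![1, x; 0, 1] * !![-1, 0; 0, 1] = !![1, -x; 0, 1]
  ext i j
  fin_cases i <;> fin_cases j <;> simp [Matrix.mul_apply, Fin.sum_univ_two]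

theorem cj_dd_t (a : (ZMod 11)ˣ) : cj dd (t a) = t a := by
  revert a
  decide +kernel

theorem cj_dd_w : cj dd (w 1) = t (-1) * w 1 := by decide +kernel

theorem w_eq (c : (ZMod 11)ˣ) : w c = w 1 * t c := (w_one_mul_t c).symm

/-- the twist, from the generators -/
theorem twist_of_gen {G : Type*} [Group G] {ρ : SpecialLinearGroup (Fin 2) (ZMod 11) →* G} {D : G}
    (hz : ρ (t (-1)) = 1) (hu : ∀ x, D * ρ (u x) * D⁻¹ = ρ (u (-x))) (ht : ∀ a, D * ρ (t a) * D⁻¹ = ρ (t a))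
    (hw : D * ρ (w 1) * D⁻¹ = ρ (w 1)) (g : SpecialLinearGroup (Fin 2) (ZMod 11)) :
    D * ρ g * D⁻¹ = ρ (cj dd g) := by
  have hu' : ∀ x, (MulAut.conj D).toMonoidHom.comp ρ (u x) = ρ.comp (cj dd).toMonoidHom (u x) := by
    intro x
    change D * ρ (u x) * D⁻¹ = ρ (cj dd (u x))
    rw [hu, cj_dd_u]
  have ht' : ∀ x, (MulAut.conj D).toMonoidHom.comp ρ (t x) = ρ.comp (cj dd).toMonoidHom (t x) := by
    intro x
    change D * ρ (t x) * D⁻¹ = ρ (cj dd (t x))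
    rw [ht, cj_dd_t]
  have hw' : (MulAut.conj D).toMonoidHom.comp ρ (w 1) = ρ.comp (cj dd).toMonoidHom (w 1) := by
    change D * ρ (w 1) * D⁻¹ = ρ (cj dd (w 1))
    rw [hw, cj_dd_w, map_mul, hz, one_mul]
  change (MulAut.conj D).toMonoidHom.comp ρ g = ρ.comp (cj dd).toMonoidHom g
  rcases bruhat g with ⟨x, a, rfl⟩ | ⟨x, c, y, rfl⟩
  · rw [map_mul, map_mul _ (u x) (t a), hu', ht']
  · rw [w_eq, map_mul, map_mul, map_mul, hu', hu', hw', ht', map_mul, map_mul, map_mul]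

theorem sq_cases : ∀ ν : ZMod 11, ν ≠ 0 → (∃ d : ZMod 11, d ≠ 0 ∧ ν = d * d) ∨ ∃ d : ZMod 11, d ≠ 0 ∧ -ν = d * d := by
  decide +kernel

theorem cj_of_eq {A B : GL (Fin 2) (ZMod 11)} {s : SpecialLinearGroup (Fin 2) (ZMod 11)} {d : ZMod 11} (hd : d ≠ 0)
    (h : (A : Matrix (Fin 2) (Fin 2) (ZMod 11)) = d • (s.1 * (B : Matrix (Fin 2) (Fin 2) (ZMod 11))))
    (g : SpecialLinearGroup (Fin 2) (ZMod 11)) : cj A g = s * cj B g * s⁻¹ := by
  rw [eq_mul_inv_iff_mul_eq]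
  have hs : s.1 = d⁻¹ • ((A : Matrix (Fin 2) (Fin 2) (ZMod 11)) * ((B⁻¹ : GL (Fin 2) (ZMod 11)) : Matrix (Fin 2) (Fin 2) (ZMod 11))) := by
    rw [h, Matrix.smul_mul, Matrix.mul_assoc, ← Units.val_mul, mul_inv_cancel, Units.val_one, Matrix.mul_one, smul_smul,
      inv_mul_cancel₀ hd, one_smul]
  apply Subtype.ext
  change (cj A g).1 * s.1 = s.1 * (cj B g).1
  rw [coe_cj, coe_cj, hs]
  have hA : ((A⁻¹ : GL (Fin 2) (ZMod 11)) : Matrix (Fin 2) (Fin 2) (ZMod 11)) * (A : Matrix (Fin 2) (Fin 2) (ZMod 11)) = 1 := by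
    rw [← Units.val_mul, inv_mul_cancel, Units.val_one]
  have hB : ((B⁻¹ : GL (Fin 2) (ZMod 11)) : Matrix (Fin 2) (Fin 2) (ZMod 11)) * (B : Matrix (Fin 2) (Fin 2) (ZMod 11)) = 1 := by
    rw [← Units.val_mul, inv_mul_cancel, Units.val_one]
  generalize ((A⁻¹ : GL (Fin 2) (ZMod 11)) : Matrix (Fin 2) (Fin 2) (ZMod 11)) = A' at *
  generalize ((B⁻¹ : GL (Fin 2) (ZMod 11)) : Matrix (Fin 2) (Fin 2) (ZMod 11)) = B' at *
  rw [Matrix.mul_smul, Matrix.smul_mul, Matrix.mul_assoc (_ * g.1) A', ← Matrix.mul_assoc A', hA, Matrix.one_mul,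
    Matrix.mul_assoc, Matrix.mul_assoc, Matrix.mul_assoc _ _ B', ← Matrix.mul_assoc B', hB, Matrix.one_mul]

theorem exists_cj (A : GL (Fin 2) (ZMod 11)) : ∃ s : SpecialLinearGroup (Fin 2) (ZMod 11),
    (∀ g, cj A g = s * g * s⁻¹) ∨ ∀ g, cj A g = s * cj dd g * s⁻¹ := by
  have hdet : (A : Matrix (Fin 2) (Fin 2) (ZMod 11)).det ≠ 0 := by
    have := A.isUnit.map (Matrix.detMonoidHom (n := Fin 2) (R := ZMod 11))
    exact this.ne_zero
  rcases sq_cases _ hdet with ⟨d, hd, h⟩ | ⟨d, hd, h⟩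
  · refine ⟨⟨d⁻¹ • (A : Matrix (Fin 2) (Fin 2) (ZMod 11)), ?_⟩, Or.inl fun g => ?_⟩
    · rw [Matrix.det_smul, Fintype.card_fin, h]
      field_simp
    · have h1 := cj_of_eq (A := A) (B := 1) (d := d) hd (s := ⟨d⁻¹ • (A : Matrix (Fin 2) (Fin 2) (ZMod 11)), by
        rw [Matrix.det_smul, Fintype.card_fin, h]
        field_simp⟩) (by
        rw [Units.val_one, Matrix.mul_one, smul_smul, mul_inv_cancel₀ hd, one_smul]) g
      rwa [map_one, MulAut.one_apply] at h1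
  · refine ⟨⟨d⁻¹ • ((A : Matrix (Fin 2) (Fin 2) (ZMod 11)) * !![-1, 0; 0, 1]), ?_⟩, Or.inr fun g => ?_⟩
    · rw [Matrix.det_smul, Fintype.card_fin, Matrix.det_mul, Matrix.det_fin_two_of]
      field_simp
      linear_combination h
    · refine cj_of_eq (A := A) (B := dd) (d := d) hd ?_ g
      change _ = d • ((d⁻¹ • ((A : Matrix (Fin 2) (Fin 2) (ZMod 11)) * !![-1, 0; 0, 1])) * !![-1, 0; 0, 1])
      rw [Matrix.smul_mul, smul_smul, mul_inv_cancel₀ hd, one_smul, Matrix.mul_assoc]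
      have h1 : (!![-1, 0; 0, 1] : Matrix (Fin 2) (Fin 2) (ZMod 11)) * !![-1, 0; 0, 1] = 1 := by decide +kernel
      rw [h1, Matrix.mul_one]

variable {F : Type u} [Field F] {P : Subgroup (GL (Fin 10) F)}

/-- **The normaliser.** -/
theorem nrm_cases (hC : Core P) (e : Soc P ≃* ProjectiveSpecialLinearGroup (Fin 2) (ZMod 11))
    (ρ : SpecialLinearGroup (Fin 2) (ZMod 11) →* GL (Fin 10) F) (hρ : ρ.range = P)
    (hρe : ∀ (g : SpecialLinearGroup (Fin 2) (ZMod 11)) (h : ρ g ∈ P), e (toSoc P ⟨ρ g, h⟩) = QuotientGroup.mk g)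
    {D : GL (Fin 10) F} (hD : ∀ g, D * ρ g * D⁻¹ = ρ (cj dd g)) {x : GL (Fin 10) F} (hx : Nrm P x) :
    ∃ (s : SpecialLinearGroup (Fin 2) (ZMod 11)) (c : F),
      (x : Matrix (Fin 10) (Fin 10) F) = c • (ρ s : Matrix (Fin 10) (Fin 10) F) ∨
      (x : Matrix (Fin 10) (Fin 10) F) = c • ((ρ s * D : GL (Fin 10) F) : Matrix (Fin 10) (Fin 10) F) := by
  obtain ⟨α, hα⟩ := hx.exists_aut e
  obtain ⟨A, σ, hA⟩ := ClassicalGeometry.AutPSL.Main.surj_two 11 α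
  have hσ : σ = 1 := Subsingleton.elim _ _
  rw [hσ, map_one, mul_one] at hA
  have hmem : ∀ g, ρ g ∈ P := fun g => hρ ▸ ⟨g, rfl⟩
  have hND : Nrm P D := by
    refine ⟨?_, ?_⟩
    · intro y hy
      rw [← hρ] at hy
      obtain ⟨g, rfl⟩ := hy
      rw [hD]
      exact hmem _
    · intro y hy
      rw [← hρ] at hy
      obtain ⟨g, rfl⟩ := hy
      obtain ⟨g', rfl⟩ := (cj dd).surjective g
      rw [← hD, show D⁻¹ * (D * ρ g' * D⁻¹) * D = ρ g' by group]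
      exact hmem _
  have hcase : ∀ (k : GL (Fin 10) F) (hk : Nrm P k), (∀ g, k * ρ g * k⁻¹ = ρ (cj A g)) →
      ∃ c : F, (x : Matrix (Fin 10) (Fin 10) F) = c • (k : Matrix (Fin 10) (Fin 10) F) := by
    intro k hk hkA
    refine scalar_of_eq hC e hx hk hα ?_
    rintro ⟨y, hy⟩
    have hy' := hy
    rw [← hρ] at hy'
    obtain ⟨g, rfl⟩ := hy'
    rw [hρe, hA]
    have h1 : hk.conj ⟨ρ g, hy⟩ = ⟨ρ (cj A g), hmem _⟩ := Subtype.ext (hkA g)
    rw [h1, hρe]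
    exact (lift_pr (cj A) g).symm
  obtain ⟨s, hs | hs⟩ := exists_cj A
  · obtain ⟨c, hc⟩ := hcase (ρ s) (Nrm.of_mem (hmem s)) (fun g => by rw [hs, map_mul, map_mul, map_inv])
    exact ⟨s, c, Or.inl hc⟩
  · obtain ⟨c, hc⟩ := hcase (ρ s * D) ((Nrm.of_mem (hmem s)).mul hND) (fun g => by
      rw [hs, map_mul, map_mul, map_inv, ← hD]
      group)
    exact ⟨s, c, Or.inr hc⟩

end Cfsg.Agent.H830.O10
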