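import Cfsg.Agent.H830.O10.EleKill
import Cfsg.Agent.H933.O10.DelTwelve

/-!
# `L₂(11) < A₁₂` in dimension 10, `|F| = 3` (helper830)

The twelve points: `i ≤ 10` is `i + 1 ∈ ZMod 11`, `11` is infinity.
-/

set_option autoImplicit false
set_option linter.unusedSectionVars false

namespace Cfsg.Agent.H830.O10.Twe

open Matrix Module Cfsg Cfsg.Geo Cfsg.Agent.H915.LD Cfsg.Agent.H464.Sl2 Cfsg.Agent.H910.Aut
open Cfsg.Agent.H933.O10 (Cx fix_of_mem_omegaGL)
open Cfsg.Agent.ClassicalGeometry.AutPSL.Auto (cj)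
open Cfsg.Agent.H830.O10

universe u

/-! ### The permutations -/

def xf (t : ZMod 11) (i : Fin 12) : Fin 12 := if i.val = 11 then i else Fin.ofNat 12 ((i.val + t.val) % 11)

def hf (a : ZMod 11) (i : Fin 12) : Fin 12 :=
  if i.val = 11 ∨ a = 0 then i else Fin.ofNat 12 ((a.val ^ 2 * (i.val + 1) + 10) % 11)

def wf (i : Fin 12) : Fin 12 := (#[9, 4, 6, 7, 1, 8, 2, 3, 5, 0, 11, 10] : Array (Fin 12)).getD i.val 0

def xp (t : ZMod 11) : Equiv.Perm (Fin 12) :=
  ⟨xf t, xf (-t), by revert t; unfold Function.LeftInverse; decide +kernel,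
    by revert t; unfold Function.RightInverse Function.LeftInverse; decide +kernel⟩

def hp (a : ZMod 11) : Equiv.Perm (Fin 12) :=
  ⟨hf a, hf a⁻¹, by revert a; unfold Function.LeftInverse; decide +kernel,
    by revert a; unfold Function.RightInverse Function.LeftInverse; decide +kernel⟩

def wp : Equiv.Perm (Fin 12) :=
  ⟨wf, wf, by unfold Function.LeftInverse; decide +kernel, by unfold Function.RightInverse Function.LeftInverse; decide +kernel⟩

theorem relp : Lib.SL2Lift.Rel xp hp wp where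
  add := by decide +kernel
  mul := by decide +kernel
  conj := by decide +kernel
  wh := by decide +kernel
  ww := by decide +kernel
  wx := by decide +kernel

/-- `z ↦ -z` -/
def df (i : Fin 12) : Fin 12 := if i.val = 11 then i else Fin.ofNat 12 ((20 - i.val) % 11)

def dp : Equiv.Perm (Fin 12) :=
  ⟨df, df, by unfold Function.LeftInverse; decide +kernel, by unfold Function.RightInverse Function.LeftInverse; decide +kernel⟩

theorem dp_u : ∀ x : ZMod 11, dp * xp x = xp (-x) * dp := by decide +kernel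

theorem dp_h : ∀ a : ZMod 11, dp * hp a = hp a * dp := by decide +kernel

theorem dp_w : dp * wp = wp * dp := by decide +kernel

/-- `SL₂(11)` on twelve points -/
noncomputable def phi : SpecialLinearGroup (Fin 2) (ZMod 11) →* Equiv.Perm (Fin 12) := Lib.SL2Lift.hom relp

theorem phi_u (x : ZMod 11) : phi (u x) = xp x := Lib.SL2Lift.hom_X relp x

theorem phi_t (a : (ZMod 11)ˣ) : phi (t a) = hp a := by
  rw [t_eq]
  exact Lib.SL2Lift.hom_H relp _ _

theorem phi_w : phi (w 1) = wp := by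
  rw [w_one_eq, map_mul, phi_t]
  have h : phi Lib.SL2Lift.W = wp := Lib.SL2Lift.hom_W relp
  rw [h]
  decide +kernel

theorem phi_neg : phi (t (-1)) = 1 := by
  rw [phi_t]
  decide +kernel

theorem two_trans : ∀ i j : Fin 12, i ≠ j → (∃ x : ZMod 11, xp x 11 = i ∧ xp x 10 = j) ∨
    ∃ x y : ZMod 11, (xp x * wp * xp y : Equiv.Perm (Fin 12)) 11 = i ∧ (xp x * wp * xp y : Equiv.Perm (Fin 12)) 10 = j := by
  decide +kernel

theorem exists_two {i j : Fin 12} (hij : i ≠ j) : ∃ g, phi g 11 = i ∧ phi g 10 = j := by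
  rcases two_trans i j hij with ⟨x, h1, h2⟩ | ⟨x, y, h1, h2⟩
  · exact ⟨u x, by rw [phi_u]; exact h1, by rw [phi_u]; exact h2⟩
  · exact ⟨u x * w 1 * u y, by rw [map_mul, map_mul, phi_u, phi_u, phi_w]; exact h1,
      by rw [map_mul, map_mul, phi_u, phi_u, phi_w]; exact h2⟩

/-! ### The twelve vectors -/

/-- coordinates of the twelve vectors -/
def cz (i : Fin 12) (k : Fin 10) : ℤ := (if i.val = k.val then 1 else 0) - (if i.val = 10 then 1 else 0)

def mz (σ : Equiv.Perm (Fin 12)) : Matrix (Fin 10) (Fin 10) ℤ := fun k j =>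
  cz (σ (Fin.castLE (by norm_num) j)) k - cz (σ 11) k

theorem trz_u : ∀ x : ZMod 11, x ≠ 0 → (mz (xp x)).trace = -1 := by decide +kernel

theorem trz_Zt : ∀ τ : ZMod 11, τ ^ 2 - 4 ≠ 0 → 3 ∣ (mz (xp τ * wp)).trace - fz (-1) τ := by decide +kernel

section model

variable (F : Type u) [Field F]

/-- the twelve vectors -/
def vs (i : Fin 12) : Fin 10 → F := fun k => ((cz i k : ℤ) : F)

def mf (σ : Equiv.Perm (Fin 12)) : Matrix (Fin 10) (Fin 10) F := (mz σ).map (Int.castRingHom F)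

/-- the ten basis vectors -/
def jj (j : Fin 10) : Fin 12 := Fin.castLE (by norm_num) j

theorem vs_jj (j : Fin 10) : vs F (jj j) = Pi.single j 1 := by
  funext k
  rw [vs, cz, Pi.single_apply]
  have h1 : (jj j).val = j.val := rfl
  have h2 : j.val ≠ 10 := by have := j.2; omega
  rw [h1, if_neg h2, sub_zero]
  by_cases h : k = j
  · rw [if_pos h, if_pos (by rw [h]), Int.cast_one]
  · rw [if_neg h, if_neg (fun e => h (Fin.ext e.symm)), Int.cast_zero]

theorem vs_eleven : vs F 11 = 0 := by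
  funext k
  rw [vs, cz, if_neg (by have := k.2; intro h; change 11 = k.val at h; omega), if_neg (by decide)]
  simp

theorem sum_fin12 {M : Type*} [AddCommMonoid M] (f : Fin 12 → M) : ∑ i, f i = (∑ j : Fin 10, f (jj j)) + f 10 + f 11 := by
  rw [Fin.sum_univ_castSucc, Fin.sum_univ_castSucc]
  rfl

theorem vs_sum : ∑ i, vs F i = 0 := by
  rw [sum_fin12, vs_eleven, add_zero]
  funext k
  rw [Pi.add_apply, Finset.sum_apply, Pi.zero_apply]
  simp only [vs_jj, Pi.single_apply]
  rw [Finset.sum_ite_eq, if_pos (Finset.mem_univ _), vs, cz,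
    if_neg (by have := k.2; intro h; change 10 = k.val at h; omega), if_pos (by decide)]
  simp

theorem mf_col (σ : Equiv.Perm (Fin 12)) (j : Fin 10) : mf F σ *ᵥ vs F (jj j) = vs F (σ (jj j)) - vs F (σ 11) := by
  rw [vs_jj, Matrix.mulVec_single_one]
  funext k
  rw [Matrix.col_apply, mf, Matrix.map_apply, mz, Pi.sub_apply, vs, vs]
  simp [jj]

variable {F} (h12 : (12 : F) = 0)

include h12 in
theorem mf_mulVec (σ : Equiv.Perm (Fin 12)) (i : Fin 12) : mf F σ *ᵥ vs F i = vs F (σ i) - vs F (σ 11) := by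
  have hcases : (∃ j, i = jj j) ∨ i = 10 ∨ i = 11 := by
    revert i
    decide
  rcases hcases with ⟨j, rfl⟩ | rfl | rfl
  · exact mf_col F σ j
  · have h1 : vs F 10 = -∑ j : Fin 10, vs F (jj j) := by
      rw [eq_neg_iff_add_eq_zero, add_comm]
      have := vs_sum F
      rwa [sum_fin12, vs_eleven, add_zero] at this
    have h : ∑ i, vs F (σ i) = 0 := by
      rw [Equiv.sum_comp σ (vs F), vs_sum]
    rw [sum_fin12] at h
    rw [h1, Matrix.mulVec_neg, Matrix.mulVec_sum, Finset.sum_congr rfl fun j _ => mf_col F σ j, Finset.sum_sub_distrib,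
      Finset.sum_const, Finset.card_univ, Fintype.card_fin, ← Nat.cast_smul_eq_nsmul F]
    have h2 : ((10 : ℕ) : F) • vs F (σ 11) = (-2 : F) • vs F (σ 11) := by
      congr 1
      push_cast
      linear_combination h12
    rw [h2]
    have h3 : ∑ j : Fin 10, vs F (σ (jj j)) = -(vs F (σ 10) + vs F (σ 11)) := by
      rw [eq_neg_iff_add_eq_zero, ← add_assoc, h]
    rw [h3]
    module
  · rw [vs_eleven, Matrix.mulVec_zero, sub_self]

theorem ext_vs {A B : Matrix (Fin 10) (Fin 10) F} (h : ∀ i, A *ᵥ vs F i = B *ᵥ vs F i) : A = B := by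
  ext k j
  have h1 := congrFun (h (jj j)) k
  rwa [vs_jj, Matrix.mulVec_single_one, Matrix.mulVec_single_one] at h1

/-- permutations as matrices -/
def mh : Equiv.Perm (Fin 12) →* Matrix (Fin 10) (Fin 10) F where
  toFun := mf F
  map_one' := by
    apply ext_vs
    intro i
    rw [mf_mulVec h12, Matrix.one_mulVec]
    change vs F i - vs F 11 = _
    rw [vs_eleven, sub_zero]
  map_mul' σ τ := by
    apply ext_vs
    intro i
    rw [mf_mulVec h12, ← Matrix.mulVec_mulVec, mf_mulVec h12, Matrix.mulVec_sub, mf_mulVec h12, mf_mulVec h12]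
    change vs F (σ (τ i)) - vs F (σ (τ 11)) = _
    abel

def mg : Equiv.Perm (Fin 12) →* GL (Fin 10) F := (mh h12).toHomUnits

theorem mg_coe (σ : Equiv.Perm (Fin 12)) : (mg h12 σ : Matrix (Fin 10) (Fin 10) F) = mf F σ := rfl

/-- the differences -/
theorem mg_sub (σ : Equiv.Perm (Fin 12)) (i j : Fin 12) :
    (mg h12 σ : Matrix (Fin 10) (Fin 10) F) *ᵥ (vs F i - vs F j) = vs F (σ i) - vs F (σ j) := by
  rw [mg_coe, Matrix.mulVec_sub, mf_mulVec h12, mf_mulVec h12]
  abel

theorem tr_mg (σ : Equiv.Perm (Fin 12)) : tr (mg h12 σ) = (((mz σ).trace : ℤ) : F) := by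
  change (mf F σ).trace = _
  rw [mf, Matrix.trace, Matrix.trace, Int.cast_sum]
  rfl

/-- the model -/
noncomputable def rho : SpecialLinearGroup (Fin 2) (ZMod 11) →* GL (Fin 10) F := (mg h12).comp phi

theorem rho_neg : rho h12 (t (-1)) = 1 := by
  rw [rho, MonoidHom.comp_apply, phi_neg, map_one]

theorem rho_u (x : ZMod 11) (hx : x ≠ 0) : tr (rho h12 (u x)) = -1 := by
  rw [rho, MonoidHom.comp_apply, phi_u, tr_mg, trz_u x hx]
  norm_num

theorem rho_Zt (h3 : (3 : F) = 0) (τ : ZMod 11) (hτ : τ ^ 2 - 4 ≠ 0) :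
    tr (rho h12 (Zt τ)) = ((fz (-1) τ : ℤ) : F) := by
  rw [rho, MonoidHom.comp_apply, Zt, map_mul, phi_u, phi_w, tr_mg]
  obtain ⟨m, hm⟩ := trz_Zt τ hτ
  have h1 := congrArg (Int.cast : ℤ → F) hm
  push_cast at h1
  rw [h3, zero_mul] at h1
  exact sub_eq_zero.1 h1

theorem dp_twist (g : SpecialLinearGroup (Fin 2) (ZMod 11)) :
    mg h12 dp * rho h12 g * (mg h12 dp)⁻¹ = rho h12 (cj dd g) := by
  refine twist_of_gen (rho_neg h12) ?_ ?_ ?_ g
  · intro x
    rw [mul_inv_eq_iff_eq_mul, rho, MonoidHom.comp_apply, MonoidHom.comp_apply, phi_u, phi_u, ← map_mul, ← map_mul, dp_u]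
  · intro a
    rw [mul_inv_eq_iff_eq_mul, rho, MonoidHom.comp_apply, phi_t, ← map_mul, ← map_mul, dp_h]
  · rw [mul_inv_eq_iff_eq_mul, rho, MonoidHom.comp_apply, phi_w, ← map_mul, ← map_mul, dp_w]

/-- the reversal of the ten basis vectors -/
def rv : Equiv.Perm (Fin 10) := ⟨fun i => 9 - i, fun i => 9 - i, by unfold Function.LeftInverse; decide,
  by unfold Function.RightInverse Function.LeftInverse; decide⟩

theorem mz_dp (k j : Fin 10) : mz dp k j = if rv j = k then 1 else 0 := by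
  have h : ∀ x : Fin 10 × Fin 10, (mz dp x.1 x.2 : ℤ) = if rv x.2 = x.1 then 1 else 0 := by decide +kernel
  exact h (k, j)

theorem sign_rv : Equiv.Perm.sign rv = -1 := by decide +kernel

theorem det_dp : (mg h12 dp : Matrix (Fin 10) (Fin 10) F).det = -1 := by
  have h1 : (mg h12 dp : Matrix (Fin 10) (Fin 10) F) = (Equiv.Perm.permMatrix F rv)ᵀ := by
    rw [mg_coe, mf]
    ext k j
    rw [Matrix.map_apply, mz_dp, Matrix.transpose_apply, Equiv.Perm.permMatrix, PEquiv.toMatrix_apply]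
    by_cases h : rv j = k
    · rw [if_pos h, h.symm]
      simp
    · rw [if_neg h, if_neg (by simpa [eq_comm] using h)]
      simp
  rw [h1, Matrix.det_transpose, Matrix.det_permutation, sign_rv]
  simp

end model

/-! ### The kill -/

variable {F : Type u} [Field F] [Fintype F] {p : ℕ} {Q : (Fin 10 → F) → F} {H P : Subgroup (GL (Fin 10) F)}

/-- **`|F| = 3`.** -/
theorem kill_three (h : Cx p Q H P) (hF : Fintype.card F = 3)
    (e : Soc P ≃* ProjectiveSpecialLinearGroup (Fin 2) (ZMod 11)) : False := by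
  obtain rfl := char_of_card h Nat.prime_three hF
  have hch := h.char
  have h30 : (3 : F) = 0 := by exact_mod_cast CharP.cast_eq_zero F 3
  have h12 : (12 : F) = 0 := by linear_combination 4 * h30
  obtain ⟨ρ, hρ, hρe, hz, hu, s, -, hs, hZ⟩ := exists_rho h (by norm_num) e
  rw [hs rfl] at hZ
  obtain ⟨J, hJ⟩ := exists_J h.core hρ hz hu hZ (rho_neg h12) (rho_u h12) (rho_Zt h12 h30)
  have hmem : ∀ g, ρ g ∈ P := fun g => hρ ▸ ⟨g, rfl⟩
  have hP : ∀ g ∈ P, ∃ s, ρ s = g := fun g hg => by rwa [← hρ] at hg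
  let W : Fin 12 → Fin 12 → (Fin 10 → F) := fun i j =>
    ((J⁻¹ : GL (Fin 10) F) : Matrix (Fin 10) (Fin 10) F) *ᵥ (vs F i - vs F j)
  have hρW : ∀ s i j, (ρ s : Matrix (Fin 10) (Fin 10) F) *ᵥ W i j = W (phi s i) (phi s j) := by
    intro s i j
    have h1 : ρ s = J⁻¹ * rho h12 s * J := by
      rw [hJ]
      group
    change (ρ s : Matrix (Fin 10) (Fin 10) F) *ᵥ (((J⁻¹ : GL (Fin 10) F) : Matrix (Fin 10) (Fin 10) F) *ᵥ _) = _
    rw [h1, Matrix.mulVec_mulVec, ← Units.val_mul, mul_assoc, mul_inv_cancel, mul_one, Units.val_mul,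
      ← Matrix.mulVec_mulVec]
    exact congrArg _ (mg_sub h12 (phi s) i j)
  have hno : ∀ x ∈ H, ∃ (s : SpecialLinearGroup (Fin 2) (ZMod 11)) (a : F),
      (x : Matrix (Fin 10) (Fin 10) F) = a • (ρ s : Matrix (Fin 10) (Fin 10) F) := by
    intro x hx
    obtain ⟨g, a, hg | hg⟩ := nrm_cases h.core e ρ hρ hρe (twist_conj hJ (dp_twist h12)) (Nrm.of_core h.hc hx)
    · exact ⟨g, a, hg⟩
    · exfalso
      have ha := FiniteField.pow_card_sub_one_eq_one a (scalar_mul_ne hg)
      rw [hF] at ha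
      have h1 := det_omegaGL (h.hH.1.le hx)
      rw [hg, Matrix.det_smul, Fintype.card_fin, Units.val_mul, Matrix.det_mul, det_omegaGL (h.le_omega (hmem g)),
        Units.val_mul, Units.val_mul, Matrix.det_mul, Matrix.det_mul, det_dp, one_mul] at h1
      have h2 : ((J⁻¹ : GL (Fin 10) F) : Matrix (Fin 10) (Fin 10) F).det * (J : Matrix (Fin 10) (Fin 10) F).det = 1 := by
        rw [← Matrix.det_mul, ← Units.val_mul, inv_mul_cancel, Units.val_one, Matrix.det_one]
      have h3 : a ^ 10 = 1 := by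
        linear_combination (a ^ 8 + a ^ 6 + a ^ 4 + a ^ 2 + 1) * ha
      have h4 : (2 : F) = 0 := by
        linear_combination -h1 - a ^ 10 * h2 - h3
      exact one_ne_zero (show (1 : F) = 0 by linear_combination h30 - h4)
  refine no_alt (Or.inr rfl) ⟨e⟩ (h.twelve (Or.inr h30) (W := W) ?_ ?_ ?_ ?_ ?_)
  · intro i j k
    change _ *ᵥ _ + _ *ᵥ _ = _ *ᵥ _
    rw [← Matrix.mulVec_add]
    congr 1
    abel
  · refine ⟨0, 11, fun h0 => ?_⟩
    have h1 : vs F 0 - vs F 11 = 0 := by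
      apply mulVec_inj J⁻¹
      rw [Matrix.mulVec_zero]
      exact h0
    rw [vs_eleven, sub_zero] at h1
    have h2 : vs F 0 = Pi.single 0 1 := vs_jj F 0
    rw [h2] at h1
    have h3 := congrFun h1 0
    rw [Pi.single_eq_same] at h3
    exact one_ne_zero h3
  · intro g hg
    obtain ⟨s, rfl⟩ := hP g hg
    exact ⟨phi s, hρW s⟩
  · intro i j k l hij hkl
    obtain ⟨g, hg1, hg2⟩ := exists_two hij
    obtain ⟨g', hg1', hg2'⟩ := exists_two hkl
    refine ⟨ρ (g' * g⁻¹), hmem _, ?_⟩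
    have hi : (phi g)⁻¹ i = 11 := by rw [Equiv.Perm.inv_eq_iff_eq, hg1]
    have hj : (phi g)⁻¹ j = 10 := by rw [Equiv.Perm.inv_eq_iff_eq, hg2]
    rw [hρW, map_mul, map_inv, Equiv.Perm.mul_apply, Equiv.Perm.mul_apply, hi, hj, hg1', hg2']
  · intro x hx i j hij
    obtain ⟨s, a, ha⟩ := hno x hx
    have h1 := FiniteField.pow_card_sub_one_eq_one a (scalar_mul_ne ha)
    rw [hF] at h1
    have h2 : a = 1 ∨ a = -1 := by
      have h3 : (a - 1) * (a + 1) = 0 := by linear_combination h1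
      rcases mul_eq_zero.1 h3 with h4 | h4
      · exact Or.inl (sub_eq_zero.1 h4)
      · exact Or.inr (eq_neg_of_add_eq_zero_left h4)
    have h5 : (x : Matrix (Fin 10) (Fin 10) F) *ᵥ W i j = a • W (phi s i) (phi s j) := by
      rw [ha, Matrix.smul_mulVec, hρW]
    rcases h2 with rfl | rfl
    · exact ⟨phi s i, phi s j, fun h => hij ((phi s).injective h), by rw [h5, one_smul]⟩
    · refine ⟨phi s j, phi s i, fun h => hij ((phi s).injective h.symm), ?_⟩
      rw [h5, neg_smul, one_smul]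
      change -(_ *ᵥ _) = _ *ᵥ _
      rw [← Matrix.mulVec_neg, neg_sub]

end Cfsg.Agent.H830.O10.Twe
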